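import Mathlib
import Cfsg.Agent.SmallSimple.SylowMaxInter

/-!
# Sylow 2-subgroups of subgroups, as subgroups of the ambient group
-/

set_option autoImplicit false
set_option linter.unusedSectionVars false

namespace Cfsg.Agent.StdEven.Syl

open Subgroup

variable {G : Type*} [Group G]

/-- `S` is a Sylow 2-subgroup of the subgroup `N`. -/
structure IsSyl (S N : Subgroup G) : Prop where
  le : S ≤ N
  two : IsPGroup 2 S
  max : ∀ X : Subgroup G, IsPGroup 2 X → X ≤ N → S ≤ X → X = S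

theorem isPGroup_map {p : ℕ} {X : Subgroup G} (h : IsPGroup p X) (g : G) :
    IsPGroup p (X.map (MulAut.conj g).toMonoidHom) := h.map _

theorem mem_map_conj {X : Subgroup G} {g x : G} : x ∈ X.map (MulAut.conj g).toMonoidHom ↔ g⁻¹ * x * g ∈ X := by
  constructor
  · rintro ⟨y, hy, rfl⟩
    have : g⁻¹ * (g * y * g⁻¹) * g = y := by group
    show g⁻¹ * (g * y * g⁻¹) * g ∈ X
    rw [this]; exact hy
  · intro h
    refine ⟨_, h, ?_⟩
    show g * (g⁻¹ * x * g) * g⁻¹ = x
    group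

theorem conj_mem_map {X : Subgroup G} (g : G) {x : G} (hx : x ∈ X) :
    g * x * g⁻¹ ∈ X.map (MulAut.conj g).toMonoidHom := ⟨x, hx, rfl⟩

/-- Finite subgroups: containment in both directions from one containment. -/
theorem mem_normalizer_of_conj_le [Finite G] {X : Subgroup G} {g : G} (h : ∀ x ∈ X, g * x * g⁻¹ ∈ X) :
    g ∈ normalizer (X : Set G) := by
  have h1 : X.map (MulAut.conj g).toMonoidHom = X := by
    apply Subgroup.eq_of_le_of_card_ge
    · rintro _ ⟨x, hx, rfl⟩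
      exact h x hx
    · exact (Nat.card_congr (X.equivMapOfInjective (MulAut.conj g).toMonoidHom (MulAut.conj g).injective).toEquiv).le
  rw [mem_normalizer_iff]
  intro x
  refine ⟨h x, fun hx => ?_⟩
  rw [← h1, mem_map_conj] at hx
  have : g⁻¹ * (g * x * g⁻¹) * g = x := by group
  rwa [this] at hx

theorem conj_mem_of_mem_normalizer {X : Subgroup G} {g x : G} (hg : g ∈ normalizer (X : Set G)) (hx : x ∈ X) :
    g * x * g⁻¹ ∈ X := (mem_normalizer_iff.mp hg x).mp hx

theorem conj_inv_mem_of_mem_normalizer {X : Subgroup G} {g x : G} (hg : g ∈ normalizer (X : Set G)) (hx : x ∈ X) :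
    g⁻¹ * x * g ∈ X := by
  have := conj_mem_of_mem_normalizer (inv_mem hg) hx
  rwa [inv_inv] at this

variable [Finite G]

theorem exists_isSyl {X N : Subgroup G} (hX : IsPGroup 2 X) (hXN : X ≤ N) : ∃ S, IsSyl S N ∧ X ≤ S := by
  have h1 : IsPGroup 2 (X.subgroupOf N) := hX.comap_subtype
  obtain ⟨P, hP⟩ := h1.exists_le_sylow
  refine ⟨(P : Subgroup N).map N.subtype, ⟨?_, P.isPGroup'.map _, ?_⟩, ?_⟩
  · rintro _ ⟨x, -, rfl⟩
    exact x.2
  · intro Y hY hYN hle
    have h2 : IsPGroup 2 (Y.subgroupOf N) := hY.comap_subtype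
    have h3 : (P : Subgroup N) ≤ Y.subgroupOf N := fun x hx => mem_subgroupOf.mpr (hle ⟨x, hx, rfl⟩)
    have h4 := P.is_maximal' h2 h3
    apply le_antisymm _ hle
    intro y hy
    have h5 : (⟨y, hYN hy⟩ : N) ∈ Y.subgroupOf N := mem_subgroupOf.mpr hy
    rw [h4] at h5
    exact ⟨_, h5, rfl⟩
  · intro x hx
    exact ⟨⟨x, hXN hx⟩, hP (mem_subgroupOf.mpr hx), rfl⟩

namespace IsSyl

variable {S N : Subgroup G}

/-- As a Sylow subgroup of the group `N`. -/
noncomputable def toSylow (h : IsSyl S N) : Sylow 2 N where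
  toSubgroup := S.subgroupOf N
  isPGroup' := h.two.comap_subtype
  is_maximal' := by
    intro Q hQ hle
    have h1 : IsPGroup 2 (Q.map N.subtype) := hQ.map _
    have h2 : Q.map N.subtype ≤ N := by rintro _ ⟨x, -, rfl⟩; exact x.2
    have h3 : S ≤ Q.map N.subtype := fun x hx => ⟨⟨x, h.le hx⟩, hle (mem_subgroupOf.mpr hx), rfl⟩
    have h4 := h.max _ h1 h2 h3
    ext x
    rw [mem_subgroupOf, ← h4]
    constructor
    · intro hx; exact ⟨x, hx, rfl⟩
    · rintro ⟨y, hy, hyx⟩
      have : y = x := Subtype.ext hyx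
      rwa [← this]

theorem coe_toSylow (h : IsSyl S N) : (h.toSylow : Subgroup N) = S.subgroupOf N := rfl

/-- Sylow's theorem. -/
theorem exists_conj (h : IsSyl S N) {X : Subgroup G} (hX : IsPGroup 2 X) (hXN : X ≤ N) :
    ∃ n ∈ N, ∀ x ∈ X, n * x * n⁻¹ ∈ S := by
  have h1 : IsPGroup 2 (X.subgroupOf N) := hX.comap_subtype
  obtain ⟨P, hP⟩ := h1.exists_le_sylow
  obtain ⟨n, hn⟩ := MulAction.exists_smul_eq N P h.toSylow
  refine ⟨n, n.2, fun x hx => ?_⟩
  have h2 : (⟨x, hXN hx⟩ : N) ∈ (P : Subgroup N) := hP (mem_subgroupOf.mpr hx)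
  have h3 : n * ⟨x, hXN hx⟩ * n⁻¹ ∈ ((n • P : Sylow 2 N) : Subgroup N) := ⟨_, h2, rfl⟩
  rw [hn, coe_toSylow, mem_subgroupOf] at h3
  exact h3

theorem card_le (h : IsSyl S N) {X : Subgroup G} (hX : IsPGroup 2 X) (hXN : X ≤ N) : Nat.card X ≤ Nat.card S := by
  obtain ⟨n, -, hn⟩ := h.exists_conj hX hXN
  have h1 : X.map (MulAut.conj n).toMonoidHom ≤ S := by
    rintro _ ⟨x, hx, rfl⟩
    exact hn x hx
  calc Nat.card X = Nat.card (X.map (MulAut.conj n).toMonoidHom) :=
        Nat.card_congr (X.equivMapOfInjective (MulAut.conj n).toMonoidHom (MulAut.conj n).injective).toEquiv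
    _ ≤ Nat.card S := Nat.card_le_card_of_injective _ (Subgroup.inclusion_injective h1)

/-- A 2-subgroup of `N` with at least as many elements is Sylow. -/
theorem of_card_le (h : IsSyl S N) {X : Subgroup G} (hX : IsPGroup 2 X) (hXN : X ≤ N)
    (hc : Nat.card S ≤ Nat.card X) : IsSyl X N := by
  refine ⟨hXN, hX, fun Y hY hYN hle => ?_⟩
  exact (Subgroup.eq_of_le_of_card_ge hle ((h.card_le hY hYN).trans hc)).symm

theorem conj (h : IsSyl S N) {g : G} (hg : g ∈ normalizer (N : Set G)) :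
    IsSyl (S.map (MulAut.conj g).toMonoidHom) N := by
  apply h.of_card_le (isPGroup_map h.two g)
  · rintro _ ⟨x, hx, rfl⟩
    exact conj_mem_of_mem_normalizer hg (h.le hx)
  · exact (Nat.card_congr (S.equivMapOfInjective (MulAut.conj g).toMonoidHom (MulAut.conj g).injective).toEquiv).le

theorem mono (h : IsSyl S N) {N' : Subgroup G} (h1 : S ≤ N') (h2 : N' ≤ N) : IsSyl S N' :=
  ⟨h1, h.two, fun X hX hXN hle => h.max X hX (hXN.trans h2) hle⟩

/-- The intersection with a normal subgroup. -/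
theorem inf_normal (h : IsSyl S N) {N' : Subgroup G} (hle : N' ≤ N) (hn : N ≤ normalizer (N' : Set G)) :
    IsSyl (S ⊓ N') N' := by
  refine ⟨inf_le_right, h.two.to_le inf_le_left, fun X hX hXN hSX => ?_⟩
  obtain ⟨n, hn', hc⟩ := h.exists_conj hX (hXN.trans hle)
  have h1 : X.map (MulAut.conj n).toMonoidHom ≤ S ⊓ N' := by
    rintro _ ⟨x, hx, rfl⟩
    exact mem_inf.mpr ⟨hc x hx, conj_mem_of_mem_normalizer (hn hn') (hXN hx)⟩
  apply (Subgroup.eq_of_le_of_card_ge hSX _).symm
  calc Nat.card X = Nat.card (X.map (MulAut.conj n).toMonoidHom) :=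
        Nat.card_congr (X.equivMapOfInjective (MulAut.conj n).toMonoidHom (MulAut.conj n).injective).toEquiv
    _ ≤ _ := Nat.card_le_card_of_injective _ (Subgroup.inclusion_injective h1)

/-- Frattini argument. -/
theorem frattini (h : IsSyl S N) {g : G} (hg : g ∈ normalizer (N : Set G)) :
    ∃ n ∈ N, n * g ∈ normalizer (S : Set G) := by
  have h1 := h.conj hg
  obtain ⟨n, hn, hc⟩ := h.exists_conj h1.two h1.le
  refine ⟨n, hn, mem_normalizer_of_conj_le fun x hx => ?_⟩
  have h2 := hc _ (conj_mem_map g hx)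
  have h3 : n * g * x * (n * g)⁻¹ = n * (g * x * g⁻¹) * n⁻¹ := by group
  rw [h3]; exact h2

theorem odd_relIndex (h : IsSyl S N) : Odd (S.relIndex N) := by
  have : Fact (Nat.Prime 2) := ⟨Nat.prime_two⟩
  have h1 := h.toSylow.not_dvd_index
  rw [coe_toSylow] at h1
  rw [Nat.odd_iff]
  show (S.subgroupOf N).index % 2 = 1
  omega

/-- `S` is a Sylow subgroup of the whole group if it is Sylow in its normaliser. -/
theorem top_of_normalizer (h : IsSyl S N) (hN : normalizer (S : Set G) ≤ N) : IsSyl S ⊤ := by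
  have : Fact (Nat.Prime 2) := ⟨Nat.prime_two⟩
  refine ⟨le_top, h.two, fun X hX _ hle => ?_⟩
  by_contra hne
  obtain ⟨P, hP⟩ := hX.exists_le_sylow
  have hlt : S < P := by
    refine lt_of_le_of_ne (hle.trans hP) fun h1 => hne ?_
    exact le_antisymm (hP.trans h1.ge) hle
  have h2 := Cfsg.Agent.SmallSimple.SylowMaxInter.lt_inf_normalizer P.isPGroup' hlt
  have h3 := h.max ((P : Subgroup G) ⊓ normalizer (S : Set G)) (P.isPGroup'.to_le inf_le_left)
    (inf_le_right.trans hN) h2.le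
  exact absurd h2 (by rw [h3]; exact lt_irrefl _)

/-- If `S` is not Sylow in the whole group, some 2-element normalises `S` without lying in `S`. -/
theorem exists_normalizer (h : IsSyl S N) (hS : ¬ IsSyl S ⊤) :
    ∃ X : Subgroup G, IsPGroup 2 X ∧ S < X ∧ X ≤ normalizer (S : Set G) := by
  have : Fact (Nat.Prime 2) := ⟨Nat.prime_two⟩
  obtain ⟨P, hP⟩ := h.two.exists_le_sylow
  have hlt : S < P := by
    refine lt_of_le_of_ne hP fun h1 => hS ?_
    rw [h1]
    exact ⟨le_top, P.isPGroup', fun X hX _ hle => P.is_maximal' hX hle⟩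
  have h2 := Cfsg.Agent.SmallSimple.SylowMaxInter.lt_inf_normalizer P.isPGroup' hlt
  exact ⟨_, P.isPGroup'.to_le inf_le_left, h2, inf_le_right⟩

end IsSyl

/-- The Sylow subgroup of the whole group as a term of `Sylow`. -/
theorem IsSyl.exists_sylow {S : Subgroup G} (h : IsSyl S ⊤) : ∃ P : Sylow 2 G, (P : Subgroup G) = S :=
  ⟨⟨S, h.two, fun {Q} hQ hle => h.max Q hQ le_top hle⟩, rfl⟩

theorem isSyl_top_of_sylow (P : Sylow 2 G) : IsSyl (P : Subgroup G) ⊤ :=
  ⟨le_top, P.isPGroup', fun X hX _ hle => P.is_maximal' hX hle⟩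

end Cfsg.Agent.StdEven.Syl
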