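import Cfsg.Agent.StdEven.Syl

/-!
# Quotients by normal subgroups of odd order: 2-subgroups, normalisers, centralisers, Sylow subgroups
-/

set_option autoImplicit false
set_option linter.unusedSectionVars false

namespace Cfsg.Agent.StdEven.OddQuot

open Subgroup Cfsg.Agent.StdEven.Syl

variable {N X : Type*} [Group N] [Finite N] [Group X] (f : N →* X) (hf : Function.Surjective f)
  (hk : Odd (Nat.card f.ker))

include hk

/-- 2-elements of the kernel are trivial. -/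
theorem eq_one_of_ker {x : N} (hx : f x = 1) {k : ℕ} (h : x ^ 2 ^ k = 1) : x = 1 := by
  have h1 : orderOf x ∣ Nat.card f.ker := Subgroup.orderOf_dvd_natCard _ ((MonoidHom.mem_ker).mpr hx)
  have h2 : orderOf x ∣ 2 ^ k := orderOf_dvd_of_pow_eq_one h
  rw [← orderOf_eq_one_iff]
  exact Nat.eq_one_of_dvd_coprimes (Nat.Coprime.pow_left k (Nat.coprime_two_left.mpr hk)) h2 h1

theorem eq_one_of_mem {Y : Subgroup N} (hY : IsPGroup 2 Y) {y : N} (hy : y ∈ Y) (h : f y = 1) : y = 1 := by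
  obtain ⟨k, hk'⟩ := hY ⟨y, hy⟩
  exact eq_one_of_ker f hk h (k := k) (congrArg Subtype.val hk')

theorem injOn {Y : Subgroup N} (hY : IsPGroup 2 Y) {x y : N} (hx : x ∈ Y) (hy : y ∈ Y) (h : f x = f y) :
    x = y := by
  have h1 : f (x * y⁻¹) = 1 := by rw [map_mul, map_inv, h, mul_inv_cancel]
  have h2 := eq_one_of_mem f hk hY (mul_mem hx (inv_mem hy)) h1
  rwa [mul_inv_eq_one] at h2

theorem card_map {Y : Subgroup N} (hY : IsPGroup 2 Y) : Nat.card (Y.map f) = Nat.card Y := by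
  have h1 : Function.Injective (f.subgroupMap Y) := by
    intro a b hab
    exact Subtype.ext (injOn f hk hY a.2 b.2 (congrArg Subtype.val hab))
  exact (Nat.card_congr (Equiv.ofBijective _ ⟨h1, f.subgroupMap_surjective Y⟩)).symm

include hf

/-- 2-subgroups lift. -/
theorem exists_lift {Y' : Subgroup X} (hY' : IsPGroup 2 Y') {Y0 : Subgroup N} (hY0 : IsPGroup 2 Y0)
    (hle : Y0.map f ≤ Y') : ∃ Y : Subgroup N, IsPGroup 2 Y ∧ Y0 ≤ Y ∧ Y.map f = Y' := by
  have : Fact (Nat.Prime 2) := ⟨Nat.prime_two⟩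
  have h0 : Y0 ≤ Y'.comap f := map_le_iff_le_comap.mp hle
  obtain ⟨S, hS, hS0⟩ := exists_isSyl hY0 h0
  refine ⟨S, hS.two, hS0, ?_⟩
  let g := f.subgroupComap Y'
  have hg : Function.Surjective g := f.subgroupComap_surjective_of_surjective Y' hf
  have h1 := (hS.toSylow.mapSurjective hg)
  have h2 : ((hS.toSylow.mapSurjective hg : Sylow 2 Y') : Subgroup Y') = ⊤ := by
    have h3 : IsPGroup 2 (⊤ : Subgroup Y') := hY'.to_subgroup ⊤
    exact ((hS.toSylow.mapSurjective hg).is_maximal' h3 le_top).symm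
  have h3 : (hS.toSylow : Subgroup (Y'.comap f)).map g = ⊤ := h2
  apply le_antisymm
  · rw [map_le_iff_le_comap]
    exact hS.le
  · intro y hy
    have h4 : (⟨y, hy⟩ : Y') ∈ (⊤ : Subgroup Y') := mem_top _
    rw [← h3] at h4
    obtain ⟨z, hz, hzy⟩ := h4
    exact ⟨z, mem_subgroupOf.mp hz, congrArg Subtype.val hzy⟩

/-- A 2-subgroup is Sylow in the full preimage of its image. -/
theorem isSyl_comap {Y : Subgroup N} (hY : IsPGroup 2 Y) : IsSyl Y ((Y.map f).comap f) := by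
  obtain ⟨S, hS, -⟩ := exists_isSyl (X := (⊥ : Subgroup N)) (N := (Y.map f).comap f) IsPGroup.of_bot bot_le
  apply hS.of_card_le hY (le_comap_map f Y)
  calc Nat.card S = Nat.card (S.map f) := (card_map f hk hS.two).symm
    _ ≤ Nat.card (Y.map f) :=
      have : Finite X := Finite.of_surjective f hf
      Nat.card_le_card_of_injective _ (Subgroup.inclusion_injective (map_le_iff_le_comap.mpr hS.le))
    _ = Nat.card Y := card_map f hk hY

/-- Two 2-subgroups with the same image are conjugate under the kernel. -/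
theorem exists_conj {Y1 Y2 : Subgroup N} (h1 : IsPGroup 2 Y1) (h2 : IsPGroup 2 Y2) (h : Y1.map f = Y2.map f) :
    ∃ o ∈ f.ker, ∀ y ∈ Y1, o * y * o⁻¹ ∈ Y2 := by
  have h3 := isSyl_comap f hf hk h2
  obtain ⟨p, hp, hc⟩ := h3.exists_conj h1 (by rw [← h]; exact le_comap_map f Y1)
  obtain ⟨y2, hy2, hpy⟩ := hp
  refine ⟨y2⁻¹ * p, ?_, fun y hy => ?_⟩
  · rw [MonoidHom.mem_ker, map_mul, map_inv, hpy, inv_mul_cancel]
  · have h4 := hc y hy
    have h5 : y2⁻¹ * p * y * (y2⁻¹ * p)⁻¹ = y2⁻¹ * (p * y * p⁻¹) * y2 := by group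
    rw [h5]
    exact mul_mem (mul_mem (inv_mem hy2) h4) hy2

/-- If `f g` conjugates the image of `Y1` onto the image of `Y2`, some `o g` with `f o = 1` conjugates `Y1` into `Y2`
(and acts as prescribed by the images). -/
theorem exists_conj_of_map {Y1 Y2 : Subgroup N} (h1 : IsPGroup 2 Y1) (h2 : IsPGroup 2 Y2) {x : X}
    (h : (Y1.map f).map (MulAut.conj x).toMonoidHom = Y2.map f) :
    ∃ g : N, f g = x ∧ (∀ y ∈ Y1, g * y * g⁻¹ ∈ Y2) ∧
      ∀ y ∈ Y1, ∀ z ∈ Y2, x * f y * x⁻¹ = f z → g * y * g⁻¹ = z := by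
  obtain ⟨g, rfl⟩ := hf x
  have h3 : (Y1.map (MulAut.conj g).toMonoidHom).map f = Y2.map f := by
    rw [← h, map_map, map_map]
    congr 1
    ext y
    simp
  obtain ⟨o, ho, hc⟩ := exists_conj f hf hk (isPGroup_map h1 g) h2 h3
  rw [MonoidHom.mem_ker] at ho
  have h4 : ∀ y ∈ Y1, (o * g) * y * (o * g)⁻¹ ∈ Y2 := by
    intro y hy
    have h5 := hc _ (conj_mem_map g hy)
    have h6 : (o * g) * y * (o * g)⁻¹ = o * (g * y * g⁻¹) * o⁻¹ := by group
    rw [h6]; exact h5
  refine ⟨o * g, by rw [map_mul, ho, one_mul], h4, fun y hy z hz hyz => ?_⟩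
  apply injOn f hk h2 (h4 y hy) hz
  rw [← hyz, map_mul, map_mul, map_inv, map_mul, ho, one_mul]

/-- Normalisers lift. -/
theorem exists_normalizer {Y : Subgroup N} (hY : IsPGroup 2 Y) {x : X} (hx : x ∈ normalizer (Y.map f : Set X)) :
    ∃ g ∈ normalizer (Y : Set N), f g = x := by
  have : Finite X := Finite.of_surjective f hf
  have h : (Y.map f).map (MulAut.conj x).toMonoidHom = Y.map f := by
    apply Subgroup.eq_of_le_of_card_ge
    · rintro _ ⟨y, hy, rfl⟩
      exact conj_mem_of_mem_normalizer hx hy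
    · exact (Nat.card_congr ((Y.map f).equivMapOfInjective (MulAut.conj x).toMonoidHom
        (MulAut.conj x).injective).toEquiv).le
  obtain ⟨g, hg, hc, -⟩ := exists_conj_of_map f hf hk hY hY h
  exact ⟨g, mem_normalizer_of_conj_le hc, hg⟩

/-- Centralisers lift. -/
theorem exists_centralizer {Y : Subgroup N} (hY : IsPGroup 2 Y) {x : X} (hx : ∀ y ∈ Y, x * f y = f y * x) :
    ∃ g : N, f g = x ∧ ∀ y ∈ Y, g * y = y * g := by
  have h : (Y.map f).map (MulAut.conj x).toMonoidHom = Y.map f := by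
    ext z
    constructor
    · rintro ⟨_, ⟨y, hy, rfl⟩, rfl⟩
      refine ⟨y, hy, ?_⟩
      show f y = x * f y * x⁻¹
      rw [hx y hy, mul_inv_cancel_right]
    · rintro ⟨y, hy, rfl⟩
      refine ⟨f y, ⟨y, hy, rfl⟩, ?_⟩
      show x * f y * x⁻¹ = f y
      rw [hx y hy, mul_inv_cancel_right]
  obtain ⟨g, hg, -, hc⟩ := exists_conj_of_map f hf hk hY hY h
  refine ⟨g, hg, fun y hy => ?_⟩
  have h1 := hc y hy y hy (by rw [hx y hy, mul_inv_cancel_right])
  rwa [mul_inv_eq_iff_eq_mul] at h1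

/-- Conjugacy of 2-elements. -/
theorem exists_conj_elem {y z : N} {k l : ℕ} (hy : y ^ 2 ^ k = 1) (hz : z ^ 2 ^ l = 1) {x : X}
    (h : x * f y * x⁻¹ = f z) : ∃ g : N, f g = x ∧ g * y * g⁻¹ = z := by
  have hp : ∀ {w : N} {m : ℕ}, w ^ 2 ^ m = 1 → IsPGroup 2 (zpowers w) := by
    rintro w m hw ⟨u, hu⟩
    obtain ⟨i, rfl⟩ := mem_zpowers_iff.mp hu
    refine ⟨m, Subtype.ext ?_⟩
    show (w ^ i) ^ 2 ^ m = 1
    rw [← zpow_natCast, ← zpow_mul, mul_comm, zpow_mul, zpow_natCast, hw, one_zpow]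
  have h1 : ((zpowers y).map f).map (MulAut.conj x).toMonoidHom = (zpowers z).map f := by
    rw [MonoidHom.map_zpowers, MonoidHom.map_zpowers, MonoidHom.map_zpowers, ← h]
    rfl
  obtain ⟨g, hg, -, hc⟩ := exists_conj_of_map f hf hk (hp hy) (hp hz) h1
  exact ⟨g, hg, hc y (mem_zpowers y) z (mem_zpowers z) h⟩

/-- Sylow subgroups of subgroups containing the kernel. -/
theorem isSyl_map {S P : Subgroup N} (hS : IsSyl S P) : IsSyl (S.map f) (P.map f) := by
  have : Finite X := Finite.of_surjective f hf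
  refine ⟨map_mono hS.le, hS.two.map f, fun Y' hY' hle hSY => ?_⟩
  -- lift `Y'` inside `P`
  let g := f.subgroupMap P
  have hg : Function.Surjective g := f.subgroupMap_surjective P
  have : Fact (Nat.Prime 2) := ⟨Nat.prime_two⟩
  have h1 := (hS.toSylow.mapSurjective hg)
  have h2 : IsPGroup 2 (Y'.subgroupOf (P.map f)) := hY'.comap_subtype
  have h3 : ((hS.toSylow.mapSurjective hg : Sylow 2 (P.map f)) : Subgroup (P.map f)) ≤
      Y'.subgroupOf (P.map f) := by
    rintro _ ⟨s, hs, rfl⟩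
    rw [mem_subgroupOf]
    exact hSY ⟨s, mem_subgroupOf.mp hs, rfl⟩
  have h4 := (hS.toSylow.mapSurjective hg).is_maximal' h2 h3
  apply le_antisymm _ hSY
  intro y hy
  have h5 : (⟨y, hle hy⟩ : P.map f) ∈ Y'.subgroupOf (P.map f) := mem_subgroupOf.mpr hy
  rw [h4] at h5
  obtain ⟨s, hs, hsy⟩ := h5
  exact ⟨s, mem_subgroupOf.mp hs, congrArg Subtype.val hsy⟩

/-- A 2-subgroup whose image is a Sylow subgroup is a Sylow subgroup. -/
theorem isSyl_of_map {S P : Subgroup N} (hS : IsPGroup 2 S) (hSP : S ≤ P) (h : IsSyl (S.map f) (P.map f)) :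
    IsSyl S P := by
  refine ⟨hSP, hS, fun Y hY hYP hSY => ?_⟩
  have h1 := h.max (Y.map f) (hY.map f) (map_mono hYP) (map_mono hSY)
  exact (Subgroup.eq_of_le_of_card_ge hSY (by rw [← card_map f hk hY, ← card_map f hk hS, h1])).symm

end Cfsg.Agent.StdEven.OddQuot
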