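import Cfsg.Agent.StdEven.Loc
import Cfsg.Agent.StdEven.OddQuot
import Cfsg.Agent.StdSz.Env

/-!
# S1778: the bridge from `G` to `X = N_G(O) / O`, `O = O(C_K(t))`, `K = C_G(A)`

Hypothesis `Hyp A t T`: `A` standard, `t` an involution of `C(A)`, `|Z(A)|` odd, `T` a Sylow 2-subgroup of `N(A)` as in
`Loc.IsT` with `T ⊓ C(A) = {1, t}`.
-/

set_option autoImplicit false
set_option linter.unusedSectionVars false

namespace Cfsg.Agent.StdEven.CoreQuot

open Cfsg Subgroup Cfsg.Agent.SignalizersComponents Cfsg.Agent.StdEven.Syl Cfsg.Agent.StdEven.Loc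

variable {G : Type*} [Group G]

/-- The situation after `|R| = 2`. -/
structure Hyp [Finite G] (A : Subgroup G) (t : G) (T : Subgroup G) : Prop where
  std : IsStandardSubgroup A
  ht : orderOf t = 2
  htA : t ∈ centralizer (A : Set G)
  hZ : Odd (Nat.card (center ↥A))
  isT : IsT A t T
  R : ∀ r ∈ T, r ∈ centralizer (A : Set G) → r = 1 ∨ r = t

/-- The group `O(C_K(t))`, `K = C_G(A)`. -/
def core (A : Subgroup G) (t : G) : Subgroup G :=
  closure {x | x ∈ centralizer (A : Set G) ∧ x * t = t * x ∧ Odd (orderOf x)}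

theorem eq_one_of_sq_of_odd {x : G} (h : x * x = 1) (ho : Odd (orderOf x)) : x = 1 := by
  have h1 : orderOf x ∣ 2 := orderOf_dvd_of_pow_eq_one (by rw [pow_two, h])
  rcases (Nat.dvd_prime Nat.prime_two).mp h1 with h2 | h2
  · exact orderOf_eq_one_iff.mp h2
  · rw [h2] at ho
    exact absurd ho (by decide)

namespace Hyp

variable [Finite G] {A : Subgroup G} {t : G} {T : Subgroup G} (h : Hyp A t T)
include h

theorem tt : t * t = 1 := Loc.tt h.ht

theorem t_ne : t ≠ 1 := Loc.t_ne h.ht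

theorem mem_normalizer {g : G} (hg : g * t = t * g) : g ∈ normalizer (A : Set G) :=
  mem_normalizer_of_comm h.std h.ht h.htA hg

/-- 2-elements of `C_K(t)` are `1` and `t`. -/
theorem eq_of_two {x : G} (hx : x ∈ centralizer (A : Set G)) (hxt : x * t = t * x) {k : ℕ} (hk : x ^ 2 ^ k = 1) :
    x = 1 ∨ x = t := by
  have hcomm : ∀ a ∈ ({x, t} : Set G), ∀ b ∈ ({x, t} : Set G), a * b = b * a := by
    rintro a (rfl | rfl) b (rfl | rfl)
    · rfl
    · exact hxt
    · exact hxt.symm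
    · rfl
  have hkt : t ^ 2 ^ (k + 1) = 1 := by
    rw [pow_succ', pow_mul, pow_two, h.tt, one_pow]
  have hkx : x ^ 2 ^ (k + 1) = 1 := by rw [pow_succ, pow_mul, hk, one_pow]
  have hle : closure ({x, t} : Set G) ≤ centralizer (A : Set G) := by
    rw [closure_le]
    rintro y (rfl | rfl)
    · exact hx
    · exact h.htA
  have h2 : IsPGroup 2 (closure ({x, t} : Set G)) := by
    rintro ⟨y, hy⟩
    refine ⟨k + 1, Subtype.ext ?_⟩
    show y ^ 2 ^ (k + 1) = 1
    induction hy using closure_induction with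
    | mem z hz =>
      rcases hz with rfl | rfl
      · exact hkx
      · exact hkt
    | one => exact one_pow _
    | mul a b ha hb iha ihb =>
      have h3 : Commute a b := by
        have h4 : closure ({x, t} : Set G) ≤ centralizer ((closure ({x, t} : Set G) : Subgroup G) : Set G) := by
          rw [centralizer_closure, closure_le]
          intro z hz
          exact mem_centralizer_iff.mpr fun w hw => (hcomm w hw z hz)
        exact (mem_centralizer_iff.mp (h4 hb) a ha)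
      rw [h3.mul_pow, iha, ihb, one_mul]
    | inv a ha iha => rw [inv_pow, iha, inv_one]
  obtain ⟨n, hn, hc⟩ := (h.isT.sylK h.std).exists_conj h2 hle
  have htx := hc x (subset_closure (by simp))
  have htt := hc t (subset_closure (by simp))
  have e1 := h.R _ htx.1 htx.2
  have e2 := (h.R _ htt.1 htt.2).resolve_left fun h3 => h.t_ne (by
    have : t = n⁻¹ * (n * t * n⁻¹) * n := by group
    rw [this, h3]; group)
  rcases e1 with e1 | e1
  · left
    have : x = n⁻¹ * (n * x * n⁻¹) * n := by group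
    rw [this, e1]; group
  · right
    have e3 : n * x * n⁻¹ = n * t * n⁻¹ := by rw [e1, e2]
    exact mul_left_cancel (mul_right_cancel e3)

/-- Products of odd order elements of `C_K(t)` have odd order. -/
theorem odd_mul {x y : G} (hx : x ∈ centralizer (A : Set G)) (hxt : x * t = t * x) (hxo : Odd (orderOf x))
    (hy : y ∈ centralizer (A : Set G)) (hyt : y * t = t * y) (hyo : Odd (orderOf y)) : Odd (orderOf (x * y)) := by
  have : Fact (Nat.Prime 2) := ⟨Nat.prime_two⟩
  let H : Subgroup G := centralizer (A : Set G) ⊓ centralizer ({t} : Set G)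
  have htH : t ∈ H := mem_inf.mpr ⟨h.htA, by rw [mem_centralizer_singleton_iff]⟩
  obtain ⟨P⟩ : Nonempty (Sylow 2 H) := inferInstance
  have hP : ∀ p ∈ (P : Subgroup H), (p : G) = 1 ∨ (p : G) = t := by
    intro p hp
    obtain ⟨k, hk⟩ := P.isPGroup' ⟨p, hp⟩
    have hk' : (p : G) ^ 2 ^ k = 1 := congrArg (fun q : (P : Subgroup H) => ((q : H) : G)) hk
    exact h.eq_of_two p.2.1 (mem_centralizer_singleton_iff.mp p.2.2) hk'
  have hN : normalizer (P : Set H) ≤ centralizer ((P : Subgroup H) : Set H) := by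
    intro g _
    rw [mem_centralizer_iff]
    intro p hp
    apply Subtype.ext
    show (p : G) * g = g * p
    rcases hP p hp with h1 | h1
    · rw [h1, one_mul, mul_one]
    · rw [h1]; exact (mem_centralizer_singleton_iff.mp g.2.2).symm
  have hcomp := MonoidHom.ker_transferSylow_isComplement' P hN
  set M := (MonoidHom.transferSylow P hN).ker with hM
  have hodd : Odd (Nat.card M) := by
    have h1 := P.not_dvd_index
    have h2 : Nat.card M = (P : Subgroup H).index := hcomp.card_left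
    rw [h2]
    rw [Nat.odd_iff]; omega
  have hmem : ∀ z : H, Odd (orderOf z) → z ∈ M := by
    intro z hz
    rw [hM, MonoidHom.mem_ker]
    have h1 : orderOf (MonoidHom.transferSylow P hN z) ∣ orderOf z := orderOf_map_dvd _ _
    have h2 : Odd (orderOf (MonoidHom.transferSylow P hN z)) := Odd.of_dvd_nat hz h1
    obtain ⟨k, hk⟩ := P.isPGroup' (MonoidHom.transferSylow P hN z)
    have h3 : orderOf (MonoidHom.transferSylow P hN z) ∣ 2 ^ k := orderOf_dvd_of_pow_eq_one hk
    rw [← orderOf_eq_one_iff]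
    exact Nat.eq_one_of_dvd_coprimes (Nat.Coprime.pow_left k (Nat.coprime_two_left.mpr h2)) h3 dvd_rfl
  have hxH : x ∈ H := mem_inf.mpr ⟨hx, by rw [mem_centralizer_singleton_iff]; exact hxt⟩
  have hyH : y ∈ H := mem_inf.mpr ⟨hy, by rw [mem_centralizer_singleton_iff]; exact hyt⟩
  have h1 : (⟨x, hxH⟩ * ⟨y, hyH⟩ : H) ∈ M :=
    mul_mem (hmem _ (by rwa [← Subgroup.orderOf_coe])) (hmem _ (by rwa [← Subgroup.orderOf_coe]))
  have h2 : orderOf (⟨x, hxH⟩ * ⟨y, hyH⟩ : H) ∣ Nat.card M := Subgroup.orderOf_dvd_natCard _ h1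
  have h3 : orderOf (x * y) = orderOf (⟨x, hxH⟩ * ⟨y, hyH⟩ : H) := by
    rw [← Subgroup.orderOf_coe]; rfl
  rw [h3]
  exact Odd.of_dvd_nat hodd h2

theorem mem_core {x : G} :
    x ∈ core A t ↔ x ∈ centralizer (A : Set G) ∧ x * t = t * x ∧ Odd (orderOf x) := by
  constructor
  · intro hx
    induction hx using closure_induction with
    | mem y hy => exact hy
    | one => exact ⟨one_mem _, by simp, by simp⟩
    | mul a b _ _ iha ihb =>
      refine ⟨mul_mem iha.1 ihb.1, ?_, h.odd_mul iha.1 iha.2.1 iha.2.2 ihb.1 ihb.2.1 ihb.2.2⟩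
      rw [mul_assoc, ihb.2.1, ← mul_assoc, iha.2.1, mul_assoc]
    | inv a _ iha =>
      refine ⟨inv_mem iha.1, ?_, by rw [orderOf_inv]; exact iha.2.2⟩
      have := iha.2.1
      calc a⁻¹ * t = a⁻¹ * (t * a) * a⁻¹ := by group
        _ = a⁻¹ * (a * t) * a⁻¹ := by rw [this]
        _ = t * a⁻¹ := by group
  · intro hx
    exact subset_closure hx

theorem core_le : core A t ≤ centralizer (A : Set G) := fun _ hx => (h.mem_core.mp hx).1

theorem comm_t {x : G} (hx : x ∈ core A t) : x * t = t * x := (h.mem_core.mp hx).2.1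

theorem odd_core : Odd (Nat.card (core A t)) := by
  by_contra hcon
  rw [Nat.not_odd_iff_even] at hcon
  have : Fact (Nat.Prime 2) := ⟨Nat.prime_two⟩
  obtain ⟨x, hx⟩ := exists_prime_orderOf_dvd_card' (G := core A t) 2 hcon.two_dvd
  have h1 := (h.mem_core.mp x.2).2.2
  rw [Subgroup.orderOf_coe, hx] at h1
  exact absurd h1 (by decide)

theorem t_not_mem_core : t ∉ core A t := by
  intro h1
  have := (h.mem_core.mp h1).2.2
  rw [h.ht] at this
  exact absurd this (by decide)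

/-- `C_K(t) = O × ⟨t⟩`. -/
theorem mem_core_or {x : G} (hx : x ∈ centralizer (A : Set G)) (hxt : x * t = t * x) :
    x ∈ core A t ∨ t * x ∈ core A t := by
  obtain ⟨i, j, hij, hi, k, hk⟩ := StdSz.Env.exists_decomp x
  have hc : ∀ n : ℕ, x ^ n * t = t * x ^ n := fun n => (Commute.pow_left (show Commute x t from hxt) n)
  have h1 : x ^ i ∈ core A t := h.mem_core.mpr ⟨pow_mem hx _, hc i, hi⟩
  rcases h.eq_of_two (pow_mem hx j) (hc j) hk with h2 | h2
  · left
    rw [h2, mul_one] at hij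
    rw [hij]; exact h1
  · right
    have h3 : t * x = x ^ i := by
      have h4 : x = x ^ i * t := by rw [h2] at hij; exact hij
      have h5 := h.comm_t h1
      calc t * x = t * (x ^ i * t) := by rw [← h4]
        _ = (t * x ^ i) * t := by group
        _ = (x ^ i * t) * t := by rw [h5]
        _ = x ^ i := by rw [mul_assoc, h.tt, mul_one]
    rw [h3]; exact h1

/-- `C_G(t)` normalises `O`. -/
theorem conj_mem_core {g x : G} (hg : g * t = t * g) (hx : x ∈ core A t) : g * x * g⁻¹ ∈ core A t := by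
  obtain ⟨h1, h2, h3⟩ := h.mem_core.mp hx
  refine h.mem_core.mpr ⟨conj_mem_of_mem_normalizer (normalizer_le_normalizer_centralizer A (h.mem_normalizer hg)) h1,
    ?_, ?_⟩
  · have hg' : g⁻¹ * t = t * g⁻¹ := by
      calc g⁻¹ * t = g⁻¹ * (t * g) * g⁻¹ := by group
        _ = g⁻¹ * (g * t) * g⁻¹ := by rw [hg]
        _ = t * g⁻¹ := by group
    calc g * x * g⁻¹ * t = g * x * (g⁻¹ * t) := by group
      _ = g * (x * t) * g⁻¹ := by rw [hg']; group
      _ = (g * t) * x * g⁻¹ := by rw [h2]; group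
      _ = t * (g * x * g⁻¹) := by rw [hg]; group
  · have : orderOf (g * x * g⁻¹) = orderOf x := (orderOf_injective (MulAut.conj g).toMonoidHom
      (MulAut.conj g).injective x)
    rw [this]; exact h3

theorem mem_normalizer_core {g : G} (hg : g * t = t * g) : g ∈ normalizer (core A t : Set G) :=
  mem_normalizer_of_conj_le fun _ hx => h.conj_mem_core hg hx

theorem A_le : A ≤ normalizer (core A t : Set G) := fun _ ha =>
  h.mem_normalizer_core (comm_of_centralizer h.htA ha).symm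

theorem T_le : T ≤ normalizer (core A t : Set G) := fun x hx => h.mem_normalizer_core (h.isT.cent x hx)

theorem t_mem : t ∈ normalizer (core A t : Set G) := h.mem_normalizer_core rfl

/-- `A ∩ O = Z(A)`. -/
theorem mem_core_iff_center {a : G} (ha : a ∈ A) : a ∈ core A t ↔ (⟨a, ha⟩ : A) ∈ center A := by
  constructor
  · intro h1
    rw [mem_center_iff]
    intro g
    exact Subtype.ext (comm_of_centralizer (h.core_le h1) g.2).symm
  · intro h1
    refine h.mem_core.mpr ⟨?_, (comm_of_centralizer h.htA ha).symm, ?_⟩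
    · rw [mem_centralizer_iff]
      intro b hb
      exact congrArg Subtype.val (mem_center_iff.mp h1 ⟨b, hb⟩)
    · have h2 : orderOf (⟨a, ha⟩ : A) ∣ Nat.card (center A) := Subgroup.orderOf_dvd_natCard _ h1
      rw [← Subgroup.orderOf_coe] at h2
      exact Odd.of_dvd_nat h.hZ h2

/-- If `n ∈ N(O)` commutes with `t` modulo `O` then `n` commutes with `t`. -/
theorem comm_of_mod {n : G} (hn : n * t * n⁻¹ * t⁻¹ ∈ core A t) : n * t = t * n := by
  set o := n * t * n⁻¹ * t⁻¹ with ho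
  obtain ⟨-, h1, h2⟩ := h.mem_core.mp hn
  have h3 : n * t * n⁻¹ = o * t := by rw [ho]; group
  have h4 : o * o = 1 := by
    have e1 : (o * t) * (o * t) = 1 := by
      rw [← h3]
      calc n * t * n⁻¹ * (n * t * n⁻¹) = n * (t * t) * n⁻¹ := by group
        _ = 1 := by rw [h.tt]; group
    calc o * o = o * o * (t * t) := by rw [h.tt, mul_one]
      _ = o * (o * t) * t := by group
      _ = o * (t * o) * t := by rw [h1]
      _ = (o * t) * (o * t) := by group
      _ = 1 := e1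
  have h5 := eq_one_of_sq_of_odd h4 h2
  rw [h5, one_mul, mul_inv_eq_iff_eq_mul] at h3
  exact h3

/-- `A` is perfect. -/
theorem perfect : ⁅(⊤ : Subgroup A), (⊤ : Subgroup A)⁆ = ⊤ := by
  have := h.std.1.1.commutator_eq_top
  rwa [commutator_def] at this

/-- Elements of `C(t)` centralising `A` modulo `O` lie in `O ∪ tO`. -/
theorem mem_core_or_of_mod {g : G} (hg : g * t = t * g) (hmod : ∀ a ∈ A, g * a * g⁻¹ * a⁻¹ ∈ core A t) :
    g ∈ core A t ∨ t * g ∈ core A t := by
  apply h.mem_core_or _ hg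
  have hgA := h.mem_normalizer hg
  -- the homomorphism `a ↦ g a g⁻¹ a⁻¹` into the centre
  have hcen : ∀ a (ha : a ∈ A), (⟨g * a * g⁻¹ * a⁻¹,
      mul_mem (conj_mem_of_mem_normalizer hgA ha) (inv_mem ha)⟩ : A) ∈ center A := fun a ha =>
    (h.mem_core_iff_center _).mp (hmod a ha)
  let f : A →* center A :=
    { toFun := fun a => ⟨_, hcen a a.2⟩
      map_one' := Subtype.ext (Subtype.ext (by simp))
      map_mul' := fun a b => by
        apply Subtype.ext
        apply Subtype.ext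
        show g * (a * b : G) * g⁻¹ * (a * b : G)⁻¹ = g * a * g⁻¹ * (a : G)⁻¹ * (g * b * g⁻¹ * (b : G)⁻¹)
        have h1 := mem_center_iff.mp (hcen b b.2) a⁻¹
        have h2 : (a : G)⁻¹ * (g * b * g⁻¹ * (b : G)⁻¹) = g * b * g⁻¹ * (b : G)⁻¹ * (a : G)⁻¹ :=
          congrArg Subtype.val h1
        calc g * (a * b : G) * g⁻¹ * (a * b : G)⁻¹ = g * a * g⁻¹ * (g * b * g⁻¹ * (b : G)⁻¹ * (a : G)⁻¹) := by group
          _ = g * a * g⁻¹ * ((a : G)⁻¹ * (g * b * g⁻¹ * (b : G)⁻¹)) := by rw [h2]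
          _ = _ := by group }
  have hf : ∀ a : A, f a = 1 := by
    intro a
    have h1 : ⁅(⊤ : Subgroup A), (⊤ : Subgroup A)⁆ ≤ f.ker := by
      rw [commutator_le]
      intro x _ y _
      rw [MonoidHom.mem_ker, map_commutatorElement, commutatorElement_eq_one_iff_mul_comm]
      exact Subtype.ext (mem_center_iff.mp (f y).2 (f x : A))
    rw [h.perfect] at h1
    exact h1 (mem_top a)
  rw [mem_centralizer_iff]
  intro a ha
  have h1 : g * a * g⁻¹ * a⁻¹ = 1 := congrArg (fun z : center A => ((z : A) : G)) (hf ⟨a, ha⟩)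
  rw [mul_inv_eq_one, mul_inv_eq_iff_eq_mul] at h1
  exact h1.symm

end Hyp

/-! ### the quotient -/

/-- `N_G(O)`. -/
abbrev NO (A : Subgroup G) (t : G) : Subgroup G := normalizer (core A t : Set G)

/-- `X = N_G(O) / O`. -/
abbrev XQ (A : Subgroup G) (t : G) : Type _ := ↥(NO A t) ⧸ (core A t).subgroupOf (NO A t)

/-- The projection `N_G(O) → X`. -/
def pr (A : Subgroup G) (t : G) : ↥(NO A t) →* XQ A t := QuotientGroup.mk' _

theorem pr_surjective (A : Subgroup G) (t : G) : Function.Surjective (pr A t) := QuotientGroup.mk'_surjective _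

theorem pr_eq_one {A : Subgroup G} {t : G} {n : ↥(NO A t)} : pr A t n = 1 ↔ (n : G) ∈ core A t := by
  show (QuotientGroup.mk n : XQ A t) = 1 ↔ _
  rw [QuotientGroup.eq_one_iff, mem_subgroupOf]

theorem ker_pr (A : Subgroup G) (t : G) : (pr A t).ker = (core A t).subgroupOf (NO A t) := by
  ext n
  rw [MonoidHom.mem_ker, pr_eq_one, mem_subgroupOf]

/-- The image in `X` of (the intersection with `N_G(O)` of) a subgroup of `G`. -/
def im (A : Subgroup G) (t : G) (Y : Subgroup G) : Subgroup (XQ A t) := (Y.subgroupOf (NO A t)).map (pr A t)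

theorem pr_mem_im {A : Subgroup G} {t : G} {Y : Subgroup G} {n : ↥(NO A t)} (hn : (n : G) ∈ Y) :
    pr A t n ∈ im A t Y := ⟨n, mem_subgroupOf.mpr hn, rfl⟩

theorem mem_im {A : Subgroup G} {t : G} {Y : Subgroup G} {x : XQ A t} :
    x ∈ im A t Y ↔ ∃ n : ↥(NO A t), (n : G) ∈ Y ∧ pr A t n = x := by
  constructor
  · rintro ⟨n, hn, rfl⟩
    exact ⟨n, mem_subgroupOf.mp hn, rfl⟩
  · rintro ⟨n, hn, rfl⟩
    exact pr_mem_im hn

theorem im_mono {A : Subgroup G} {t : G} {Y Y' : Subgroup G} (h : Y ≤ Y') : im A t Y ≤ im A t Y' :=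
  map_mono (fun _ hx => mem_subgroupOf.mpr (h (mem_subgroupOf.mp hx)))

namespace Hyp

variable [Finite G] {A : Subgroup G} {t : G} {T : Subgroup G} (h : Hyp A t T)
include h

theorem odd_ker : Odd (Nat.card (pr A t).ker) := by
  rw [ker_pr]
  have : Nat.card ((core A t).subgroupOf (NO A t)) = Nat.card (core A t) :=
    Nat.card_congr (subgroupOfEquivOfLe le_normalizer).toEquiv
  rw [this]
  exact h.odd_core

/-- The image of `t`. -/
def tX : XQ A t := pr A t ⟨t, h.t_mem⟩

theorem tX_eq : h.tX = pr A t ⟨t, h.t_mem⟩ := rfl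

theorem tX_sq : h.tX * h.tX = 1 := by
  rw [tX, ← map_mul]
  have : (⟨t, h.t_mem⟩ : NO A t) * ⟨t, h.t_mem⟩ = 1 := Subtype.ext h.tt
  rw [this, map_one]

theorem tX_ne : h.tX ≠ 1 := by
  intro h1
  exact h.t_not_mem_core (pr_eq_one.mp h1)

theorem orderOf_tX : orderOf h.tX = 2 := orderOf_eq_prime (by rw [pow_two, h.tX_sq]) h.tX_ne

/-- (X1) `n ∈ N_G(O)` commutes with `t` iff its image commutes with the image of `t`. -/
theorem pr_comm_iff {n : ↥(NO A t)} : pr A t n * h.tX = h.tX * pr A t n ↔ (n : G) * t = t * n := by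
  constructor
  · intro h1
    apply h.comm_of_mod
    have h2 : pr A t (n * ⟨t, h.t_mem⟩ * n⁻¹ * ⟨t, h.t_mem⟩⁻¹) = 1 := by
      rw [map_mul, map_mul, map_mul, map_inv, map_inv]
      have h3 : pr A t n * h.tX * (pr A t n)⁻¹ * h.tX⁻¹ = 1 := by rw [h1]; group
      exact h3
    exact pr_eq_one.mp h2
  · intro h1
    rw [tX, ← map_mul, ← map_mul]
    congr 1
    exact Subtype.ext h1

/-- Every element of `C_X(t)` is the image of an element of `C_G(t)`. -/
theorem exists_of_comm {x : XQ A t} (hx : x * h.tX = h.tX * x) :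
    ∃ g : G, ∃ hg : g * t = t * g, pr A t ⟨g, h.mem_normalizer_core hg⟩ = x := by
  obtain ⟨n, rfl⟩ := pr_surjective A t x
  exact ⟨n, h.pr_comm_iff.mp hx, rfl⟩

/-- The image of `A` centralises the image of `t`. -/
theorem im_A_comm {x : XQ A t} (hx : x ∈ im A t A) : x * h.tX = h.tX * x := by
  obtain ⟨n, hn, rfl⟩ := mem_im.mp hx
  exact h.pr_comm_iff.mpr (comm_of_centralizer h.htA hn).symm

/-- `C_X(t)` normalises the image of `A`. -/
theorem conj_mem_im {x a : XQ A t} (hx : x * h.tX = h.tX * x) (ha : a ∈ im A t A) : x * a * x⁻¹ ∈ im A t A := by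
  obtain ⟨g, hg, rfl⟩ := h.exists_of_comm hx
  obtain ⟨n, hn, rfl⟩ := mem_im.mp ha
  rw [← map_inv, ← map_mul, ← map_mul]
  exact pr_mem_im (conj_mem_of_mem_normalizer (h.mem_normalizer hg) hn)

/-- `C_X(t) ∩ C_X(A) = {1, t}`. -/
theorem eq_of_cent {x : XQ A t} (hx : x * h.tX = h.tX * x) (hA : ∀ a ∈ im A t A, x * a = a * x) :
    x = 1 ∨ x = h.tX := by
  obtain ⟨g, hg, rfl⟩ := h.exists_of_comm hx
  have h1 : ∀ a ∈ A, g * a * g⁻¹ * a⁻¹ ∈ core A t := by
    intro a ha
    have h2 := hA _ (pr_mem_im (n := ⟨a, h.A_le ha⟩) ha)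
    have h3 : pr A t (⟨g, h.mem_normalizer_core hg⟩ * ⟨a, h.A_le ha⟩ * ⟨g, h.mem_normalizer_core hg⟩⁻¹ *
        ⟨a, h.A_le ha⟩⁻¹) = 1 := by
      rw [map_mul, map_mul, map_mul, map_inv, map_inv, h2]; group
    exact pr_eq_one.mp h3
  rcases h.mem_core_or_of_mod hg h1 with h2 | h2
  · left
    exact pr_eq_one.mpr h2
  · right
    have h3 : pr A t (⟨t, h.t_mem⟩ * ⟨g, h.mem_normalizer_core hg⟩) = 1 := pr_eq_one.mpr h2
    rw [map_mul] at h3
    have h4 : h.tX * pr A t ⟨g, h.mem_normalizer_core hg⟩ = 1 := h3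
    rw [eq_inv_of_mul_eq_one_right h4]
    exact inv_eq_of_mul_eq_one_right h.tX_sq

/-- The image of `A` is `A / Z(A)`. -/
theorem nonempty_equiv : Nonempty (↥(im A t A) ≃* ↥A ⧸ center ↥A) := by
  let φ : A →* XQ A t := (pr A t).comp (Subgroup.inclusion h.A_le)
  have hker : φ.ker = center A := by
    ext a
    rw [MonoidHom.mem_ker, ← h.mem_core_iff_center a.2]
    exact pr_eq_one
  have hrange : φ.range = im A t A := by
    ext x
    constructor
    · rintro ⟨a, rfl⟩
      exact pr_mem_im a.2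
    · intro hx
      obtain ⟨n, hn, rfl⟩ := mem_im.mp hx
      exact ⟨⟨n, hn⟩, rfl⟩
  refine ⟨(MulEquiv.subgroupCongr hrange.symm).trans ?_⟩
  exact (QuotientGroup.quotientKerEquivRange φ).symm.trans (QuotientGroup.quotientMulEquivOfEq hker)

/-- The natural isomorphism: `pr a` corresponds to `a Z(A)`. -/
theorem exists_equiv : ∃ e : ↥A ⧸ center ↥A ≃* ↥(im A t A), ∀ a : A,
    ((e (QuotientGroup.mk a) : ↥(im A t A)) : XQ A t) = pr A t ⟨a, h.A_le a.2⟩ := by
  let φ : A →* XQ A t := (pr A t).comp (Subgroup.inclusion h.A_le)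
  have hker : φ.ker = center A := by
    ext a
    rw [MonoidHom.mem_ker, ← h.mem_core_iff_center a.2]
    exact pr_eq_one
  have hrange : φ.range = im A t A := by
    ext x
    constructor
    · rintro ⟨a, rfl⟩
      exact pr_mem_im a.2
    · intro hx
      obtain ⟨n, hn, rfl⟩ := mem_im.mp hx
      exact ⟨⟨n, hn⟩, rfl⟩
  refine ⟨((QuotientGroup.quotientMulEquivOfEq hker.symm).trans (QuotientGroup.quotientKerEquivRange φ)).trans
    (MulEquiv.subgroupCongr hrange), fun a => rfl⟩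

/-! ### 2-subgroups -/

theorem two_im {Y : Subgroup G} (hY : IsPGroup 2 Y) : IsPGroup 2 (im A t Y) :=
  (hY.comap_subtype : IsPGroup 2 (Y.subgroupOf (NO A t))).map _

theorem card_im {Y : Subgroup G} (hY : IsPGroup 2 Y) (hYN : Y ≤ NO A t) : Nat.card (im A t Y) = Nat.card Y := by
  have h1 := OddQuot.card_map (pr A t) h.odd_ker (Y := Y.subgroupOf (NO A t)) hY.comap_subtype
  exact h1.trans (Nat.card_congr (subgroupOfEquivOfLe hYN).toEquiv)

theorem pr_inj {Y : Subgroup G} (hY : IsPGroup 2 Y) {x y : ↥(NO A t)} (hx : (x : G) ∈ Y) (hy : (y : G) ∈ Y)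
    (hxy : pr A t x = pr A t y) : x = y :=
  OddQuot.injOn (pr A t) h.odd_ker (Y := Y.subgroupOf (NO A t)) hY.comap_subtype (mem_subgroupOf.mpr hx)
    (mem_subgroupOf.mpr hy) hxy

/-- A 2-subgroup `Y ≤ N_G(O)` is isomorphic to its image. -/
theorem exists_equiv_im {Y : Subgroup G} (hY : IsPGroup 2 Y) (hYN : Y ≤ NO A t) :
    ∃ e : Y ≃* im A t Y, ∀ y : Y, ((e y : im A t Y) : XQ A t) = pr A t ⟨y, hYN y.2⟩ := by
  let φ : Y →* im A t Y :=
    { toFun := fun y => ⟨pr A t ⟨y, hYN y.2⟩, pr_mem_im y.2⟩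
      map_one' := Subtype.ext (map_one (pr A t))
      map_mul' := fun a b => Subtype.ext (map_mul (pr A t) ⟨a, hYN a.2⟩ ⟨b, hYN b.2⟩) }
  have hφ : Function.Bijective φ := by
    constructor
    · intro a b hab
      have h1 := h.pr_inj hY (x := ⟨a, hYN a.2⟩) (y := ⟨b, hYN b.2⟩) a.2 b.2 (congrArg Subtype.val hab)
      exact Subtype.ext (congrArg (fun z : ↥(NO A t) => (z : G)) h1)
    · rintro ⟨x, hx⟩
      obtain ⟨n, hn, rfl⟩ := mem_im.mp hx
      exact ⟨⟨n, hn⟩, rfl⟩
  exact ⟨MulEquiv.ofBijective φ hφ, fun y => rfl⟩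

/-- 2-subgroups of `X` lift (above a given 2-subgroup). -/
theorem exists_lift {Y' : Subgroup (XQ A t)} (hY' : IsPGroup 2 Y') {Y0 : Subgroup G} (hY0 : IsPGroup 2 Y0)
    (hY0N : Y0 ≤ NO A t) (hle : im A t Y0 ≤ Y') :
    ∃ Y : Subgroup G, IsPGroup 2 Y ∧ Y ≤ NO A t ∧ Y0 ≤ Y ∧ im A t Y = Y' := by
  obtain ⟨Y, h1, h2, h3⟩ := OddQuot.exists_lift (pr A t) (pr_surjective A t) h.odd_ker hY'
    (Y0 := Y0.subgroupOf (NO A t)) hY0.comap_subtype hle
  refine ⟨Y.map (NO A t).subtype, h1.map _, map_subtype_le Y, ?_, ?_⟩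
  · intro y hy
    exact ⟨⟨y, hY0N hy⟩, h2 (mem_subgroupOf.mpr hy), rfl⟩
  · rw [im, ← h3]
    congr 1
    ext n
    rw [mem_subgroupOf]
    constructor
    · rintro ⟨m, hm, hmn⟩
      have : m = n := Subtype.ext hmn
      rwa [← this]
    · intro hn
      exact ⟨n, hn, rfl⟩

/-- Conjugation in `X` between images of 2-subgroups comes from `N_G(O)`. -/
theorem exists_conj_of_im {Y1 Y2 : Subgroup G} (h1 : IsPGroup 2 Y1) (h2 : IsPGroup 2 Y2) (h1N : Y1 ≤ NO A t)
    {x : XQ A t} (hx : (im A t Y1).map (MulAut.conj x).toMonoidHom = im A t Y2) :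
    ∃ g : ↥(NO A t), pr A t g = x ∧ (∀ y ∈ Y1, (g : G) * y * (g : G)⁻¹ ∈ Y2) ∧
      ∀ y z : ↥(NO A t), (y : G) ∈ Y1 → (z : G) ∈ Y2 → x * pr A t y * x⁻¹ = pr A t z → g * y * g⁻¹ = z := by
  obtain ⟨g, hg, hc, hc'⟩ := OddQuot.exists_conj_of_map (pr A t) (pr_surjective A t) h.odd_ker
    (Y1 := Y1.subgroupOf (NO A t)) (Y2 := Y2.subgroupOf (NO A t)) h1.comap_subtype h2.comap_subtype hx
  refine ⟨g, hg, fun y hy => ?_, fun y z hy hz hyz => hc' y (mem_subgroupOf.mpr hy) z (mem_subgroupOf.mpr hz) hyz⟩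
  exact mem_subgroupOf.mp (hc ⟨y, h1N hy⟩ (mem_subgroupOf.mpr hy))

/-- Normalisers in `X` of images of 2-subgroups. -/
theorem exists_normalizer {Y : Subgroup G} (hY : IsPGroup 2 Y) (hYN : Y ≤ NO A t) {x : XQ A t}
    (hx : x ∈ normalizer (im A t Y : Set (XQ A t))) :
    ∃ g : ↥(NO A t), (g : G) ∈ normalizer (Y : Set G) ∧ pr A t g = x := by
  obtain ⟨g, hg, hgx⟩ := OddQuot.exists_normalizer (pr A t) (pr_surjective A t) h.odd_ker
    (Y := Y.subgroupOf (NO A t)) hY.comap_subtype hx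
  refine ⟨g, mem_normalizer_of_conj_le fun y hy => ?_, hgx⟩
  exact mem_subgroupOf.mp (conj_mem_of_mem_normalizer hg (x := ⟨y, hYN hy⟩) (mem_subgroupOf.mpr hy))

theorem pr_mem_normalizer {Y : Subgroup G} {g : ↥(NO A t)} (hg : (g : G) ∈ normalizer (Y : Set G)) :
    pr A t g ∈ normalizer (im A t Y : Set (XQ A t)) := by
  apply mem_normalizer_of_conj_le
  intro x hx
  obtain ⟨n, hn, rfl⟩ := mem_im.mp hx
  rw [← map_inv, ← map_mul, ← map_mul]
  exact pr_mem_im (conj_mem_of_mem_normalizer hg hn)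

/-- Centralisers in `X` of images of 2-subgroups. -/
theorem exists_centralizer {Y : Subgroup G} (hY : IsPGroup 2 Y) (hYN : Y ≤ NO A t) {x : XQ A t}
    (hx : ∀ y ∈ im A t Y, x * y = y * x) :
    ∃ g : ↥(NO A t), (∀ y ∈ Y, (g : G) * y = y * g) ∧ pr A t g = x := by
  obtain ⟨g, hgx, hg⟩ := OddQuot.exists_centralizer (pr A t) (pr_surjective A t) h.odd_ker
    (Y := Y.subgroupOf (NO A t)) hY.comap_subtype (x := x) (fun y hy => hx _ ⟨y, hy, rfl⟩)
  exact ⟨g, fun y hy => congrArg Subtype.val (hg ⟨y, hYN hy⟩ (mem_subgroupOf.mpr hy)), hgx⟩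

/-- Conjugacy of 2-elements. -/
theorem exists_conj_elem {y z : ↥(NO A t)} {k l : ℕ} (hy : y ^ 2 ^ k = 1) (hz : z ^ 2 ^ l = 1) {x : XQ A t}
    (hx : x * pr A t y * x⁻¹ = pr A t z) : ∃ g : ↥(NO A t), pr A t g = x ∧ g * y * g⁻¹ = z :=
  OddQuot.exists_conj_elem (pr A t) (pr_surjective A t) h.odd_ker hy hz hx

/-- The image of `T` is a Sylow 2-subgroup of `C_X(t)`. -/
theorem syl_im : IsSyl (im A t T) (centralizer ({h.tX} : Set (XQ A t))) := by
  refine ⟨?_, h.two_im h.isT.syl.two, fun Y' hY' hle hTY => ?_⟩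
  · intro x hx
    obtain ⟨n, hn, rfl⟩ := mem_im.mp hx
    rw [mem_centralizer_singleton_iff]
    exact h.pr_comm_iff.mpr (h.isT.cent n hn)
  · obtain ⟨Y, hY, hYN, hTY', rfl⟩ := h.exists_lift hY' h.isT.syl.two h.T_le hTY
    have h1 : Y = T := by
      apply (h.isT.syl_cent h.std h.ht h.htA).max Y hY _ hTY'
      intro y hy
      rw [mem_centralizer_singleton_iff]
      have h2 := hle (pr_mem_im (n := ⟨y, hYN hy⟩) hy)
      rw [mem_centralizer_singleton_iff] at h2
      exact h.pr_comm_iff.mp h2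
    rw [h1]

/-! ### staying inside `N_G(O)` -/

/-- If every odd order element of `C_G(Y)` lies in `O` and `O` centralises `Y` then `N_G(Y) ≤ N_G(O)`. -/
theorem normalizer_le_of_core {Y : Subgroup G} (hO : ∀ o ∈ core A t, ∀ y ∈ Y, o * y = y * o)
    (hY : ∀ x : G, (∀ y ∈ Y, x * y = y * x) → Odd (orderOf x) → x ∈ core A t) :
    normalizer (Y : Set G) ≤ NO A t := by
  intro n hn
  apply mem_normalizer_of_conj_le
  intro o ho
  apply hY
  · intro y hy
    have h1 : n⁻¹ * y * n ∈ Y := conj_inv_mem_of_mem_normalizer hn hy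
    have h2 := hO o ho _ h1
    calc n * o * n⁻¹ * y = n * (o * (n⁻¹ * y * n)) * n⁻¹ := by group
      _ = n * (n⁻¹ * y * n * o) * n⁻¹ := by rw [h2]
      _ = y * (n * o * n⁻¹) := by group
  · have : orderOf (n * o * n⁻¹) = orderOf o := orderOf_injective (MulAut.conj n).toMonoidHom
      (MulAut.conj n).injective o
    rw [this]
    exact (h.mem_core.mp ho).2.2

/-- The same with the condition in `X`: `t ∈ Y ≤ ⟨t⟩A`-like (i.e. `O` centralises `Y`) and no nontrivial element of odd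
order of `X` centralises the image of `Y`. -/
theorem normalizer_le {Y : Subgroup G} (htY : t ∈ Y)
    (hO : ∀ o ∈ core A t, ∀ y ∈ Y, o * y = y * o)
    (hX : ∀ x : XQ A t, (∀ y ∈ im A t Y, x * y = y * x) → Odd (orderOf x) → x = 1) :
    normalizer (Y : Set G) ≤ NO A t := by
  apply h.normalizer_le_of_core hO
  intro x hx hxo
  have hxt := hx t htY
  have h1 := hX (pr A t ⟨x, h.mem_normalizer_core hxt⟩) (by
    intro y hy
    obtain ⟨n, hn, rfl⟩ := mem_im.mp hy
    rw [← map_mul, ← map_mul]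
    congr 1
    exact Subtype.ext (hx n hn)) (by
    have h2 : orderOf (pr A t ⟨x, h.mem_normalizer_core hxt⟩) ∣ orderOf (⟨x, h.mem_normalizer_core hxt⟩ : NO A t) :=
      orderOf_map_dvd _ _
    rw [← Subgroup.orderOf_coe] at h2
    exact Odd.of_dvd_nat hxo h2)
  exact pr_eq_one.mp h1

/-- Elements fusing `t` inside `N_G(O)` lie in `N_G(O)`. -/
theorem mem_of_conj_eq {g n : G} (hn : n ∈ NO A t) (hgn : g * t * g⁻¹ = n * t * n⁻¹) : g ∈ NO A t := by
  have h1 : (n⁻¹ * g) * t = t * (n⁻¹ * g) := by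
    calc (n⁻¹ * g) * t = n⁻¹ * (g * t * g⁻¹) * g := by group
      _ = n⁻¹ * (n * t * n⁻¹) * g := by rw [hgn]
      _ = t * (n⁻¹ * g) := by group
  have h2 := mul_mem hn (h.mem_normalizer_core h1)
  rwa [mul_inv_cancel_left] at h2

/-- If `N_G(S)` fuses `t` only inside `N_G(O)` then `N_G(S) ≤ N_G(O)`. -/
theorem normalizer_le_of_fusion {S : Subgroup G}
    (hS : ∀ g ∈ normalizer (S : Set G), ∃ n ∈ NO A t, g * t * g⁻¹ = n * t * n⁻¹) :
    normalizer (S : Set G) ≤ NO A t := by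
  intro g hg
  obtain ⟨n, hn, hgn⟩ := hS g hg
  exact h.mem_of_conj_eq hn hgn

/-- A 2-subgroup `S ≤ N_G(O)` with `N_G(S) ≤ N_G(O)` and Sylow image is a Sylow 2-subgroup of `G`. -/
theorem syl_top {S : Subgroup G} (hS : IsPGroup 2 S) (hSN : S ≤ NO A t) (hN : normalizer (S : Set G) ≤ NO A t)
    (hX : IsSyl (im A t S) ⊤) : IsSyl S ⊤ := by
  have h1 : IsSyl S (NO A t) := by
    refine ⟨hSN, hS, fun Y hY hYN hSY => ?_⟩
    have h2 := hX.max (im A t Y) (h.two_im hY) le_top (im_mono hSY)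
    exact (Subgroup.eq_of_le_of_card_ge hSY (by rw [← h.card_im hY hYN, ← h.card_im hS hSN, h2])).symm
  exact h1.top_of_normalizer hN

end Hyp

end Cfsg.Agent.StdEven.CoreQuot
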