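import Cfsg.Agent.WreathFusion.Closing
import Cfsg.Agent.StdEven.CoreQuot
import Cfsg.Agent.StdL2.Setup

/-!
# S1778: the end in `X = N_G(O) / O` gives the end in `G`

`e : Closing.End H.tX (im A t T) U' S' V' Z'` in `X`; `main`: if moreover `S' ≤ im A t L` then `S'` is the image of a
Sylow 2-subgroup `S` of `L` and `t ∉ L`.
-/

set_option autoImplicit false
set_option linter.unusedSectionVars false

namespace Cfsg.Agent.StdEven.EndLift

open Cfsg Subgroup Cfsg.Agent.SignalizersComponents Cfsg.Agent.StdEven.Syl Cfsg.Agent.StdEven.Loc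
open Cfsg.Agent.StdEven.CoreQuot Cfsg.Agent.StdL2.Setup Cfsg.Agent.WreathFusion.Closing
open scoped commutatorElement

variable {G : Type*} [Group G]

/-- The elements of `P` with image in `Y'`. -/
def back {A : Subgroup G} {t : G} (P : Subgroup G) (Y' : Subgroup (XQ A t)) : Subgroup G :=
  P ⊓ (Y'.comap (pr A t)).map (NO A t).subtype

theorem mem_back {A : Subgroup G} {t : G} {P : Subgroup G} {Y' : Subgroup (XQ A t)} {g : G} :
    g ∈ back P Y' ↔ g ∈ P ∧ ∃ h : g ∈ NO A t, pr A t ⟨g, h⟩ ∈ Y' := by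
  unfold back
  rw [mem_inf]
  constructor
  · rintro ⟨h1, n, hn, rfl⟩
    exact ⟨h1, n.2, hn⟩
  · rintro ⟨h1, h2, h3⟩
    exact ⟨h1, ⟨g, h2⟩, h3, rfl⟩

section

variable [Finite G] {L A T : Subgroup G} {t : G} (H : Hyp A t T) {U' S' V' Z' : Subgroup (XQ A t)}
  (e : End H.tX (im A t T) U' S' V' Z') {P : Subgroup G} (hP : IsPGroup 2 P) (hPN : P ≤ NO A t) (hTP : T ≤ P)
  (hPi : im A t P = S' ⊔ im A t T)
include H e hP hPN hTP hPi

theorem lift_end : End t T (back P U') (back P S') (back P V') (back P Z') := by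
  have inj : ∀ {g g' : G} (hg : g ∈ P) (hg' : g' ∈ P), pr A t ⟨g, hPN hg⟩ = pr A t ⟨g', hPN hg'⟩ → g = g' := by
    intro g g' hg hg' hgg
    exact congrArg Subtype.val (H.pr_inj hP (x := ⟨g, hPN hg⟩) (y := ⟨g', hPN hg'⟩) hg hg' hgg)
  -- lifting elements of `S'`
  have lift : ∀ {x : XQ A t}, x ∈ S' ⊔ im A t T → ∃ g, ∃ hg : g ∈ P, pr A t ⟨g, hPN hg⟩ = x := by
    intro x hx
    rw [← hPi] at hx
    obtain ⟨n, hn, hnx⟩ := mem_im.mp hx
    exact ⟨n, hn, hnx⟩
  have mb : ∀ {Y' : Subgroup (XQ A t)} {g : G} (hg : g ∈ P), pr A t ⟨g, hPN hg⟩ ∈ Y' → g ∈ back P Y' :=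
    fun hg h => mem_back.mpr ⟨hg, hPN hg, h⟩
  have mb' : ∀ {Y' : Subgroup (XQ A t)} {g : G}, g ∈ back P Y' → ∃ hg : g ∈ P, pr A t ⟨g, hPN hg⟩ ∈ Y' := by
    intro Y' g hg
    obtain ⟨h1, h2, h3⟩ := mem_back.mp hg
    exact ⟨h1, h3⟩
  have htP : t ∈ P := hTP H.isT.mem
  have mk : ∀ {g g' : G}, g ∈ P → g' ∈ P → ⁅g, g'⁆ ∈ P := by
    intro g g' hg hg'
    rw [commutatorElement_def]
    exact mul_mem (mul_mem (mul_mem hg hg') (inv_mem hg)) (inv_mem hg')
  have mc : ∀ {g g' : G}, g ∈ P → g' ∈ P → g * g' * g⁻¹ ∈ P := fun hg hg' => mul_mem (mul_mem hg hg') (inv_mem hg)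
  have pm : ∀ {g g' : G} (hg : g ∈ P) (hg' : g' ∈ P),
      pr A t ⟨g * g', hPN (mul_mem hg hg')⟩ = pr A t ⟨g, hPN hg⟩ * pr A t ⟨g', hPN hg'⟩ := by
    intro g g' hg hg'
    rw [← map_mul]; rfl
  have pc : ∀ {g g' : G} (hg : g ∈ P) (hg' : g' ∈ P),
      pr A t ⟨g * g' * g⁻¹, hPN (mc hg hg')⟩ = pr A t ⟨g, hPN hg⟩ * pr A t ⟨g', hPN hg'⟩ * (pr A t ⟨g, hPN hg⟩)⁻¹ := by
    intro g g' hg hg'
    rw [← map_inv, ← map_mul, ← map_mul]; rfl
  have pk : ∀ {g g' : G} (hg : g ∈ P) (hg' : g' ∈ P),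
      pr A t ⟨⁅g, g'⁆, hPN (mk hg hg')⟩ = ⁅pr A t ⟨g, hPN hg⟩, pr A t ⟨g', hPN hg'⟩⁆ := by
    intro g g' hg hg'
    rw [← map_commutatorElement]; rfl
  have comm : ∀ {g g' : G} (hg : g ∈ P) (hg' : g' ∈ P),
      pr A t ⟨g, hPN hg⟩ * pr A t ⟨g', hPN hg'⟩ = pr A t ⟨g', hPN hg'⟩ * pr A t ⟨g, hPN hg⟩ → g * g' = g' * g := by
    intro g g' hg hg' h
    apply inj (mul_mem hg hg') (mul_mem hg' hg)
    rw [pm hg hg', pm hg' hg, h]
  have comm' : ∀ {g g' : G} (hg : g ∈ P) (hg' : g' ∈ P), g * g' = g' * g →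
      pr A t ⟨g, hPN hg⟩ * pr A t ⟨g', hPN hg'⟩ = pr A t ⟨g', hPN hg'⟩ * pr A t ⟨g, hPN hg⟩ := by
    intro g g' hg hg' h
    rw [← map_mul, ← map_mul]
    congr 1
    exact Subtype.ext h
  have hT : ∀ {x : G} (hx : x ∈ T), pr A t ⟨x, hPN (hTP hx)⟩ ∈ im A t T := fun hx => pr_mem_im hx
  refine
    { tt := H.tt
      tT := H.isT.mem
      twoS := hP.to_le inf_le_left
      twoT := H.isT.syl.two
      TC := H.isT.cent
      syl := fun Q hQ hQc hTQ => (H.isT.syl_cent H.std H.ht H.htA).max Q hQ (fun x hx => by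
        rw [mem_centralizer_singleton_iff]; exact hQc x hx) hTQ
      norm := fun x hx s hs => ?_
      US := fun g hg => ?_
      UT := fun g hg => ?_
      cent := fun s hs hst => ?_
      tS := fun h => ?_
      good := fun s hs h2 => ?_
      inv := fun y hy hyy => ?_
      ab := fun x hx y hy => ?_
      VS := fun g hg => ?_
      Vc := fun v hv s hs => ?_
      Vn := fun x hx v hv => ?_
      gen := fun u hu => ?_
      VU := fun v hv => ?_
      fix := fun y hy hU hV => ?_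
      lt := ?_ }
  · obtain ⟨h1, h2⟩ := mb' hs
    refine mb (mc (hTP hx) h1) ?_
    rw [pc (hTP hx) h1]
    exact e.norm _ (hT hx) _ h2
  · obtain ⟨h1, h2⟩ := mb' hg
    exact mb h1 (e.US h2)
  · obtain ⟨h1, h2⟩ := mb' hg
    obtain ⟨n, hn, hne⟩ := mem_im.mp (e.UT h2)
    have : (n : G) = g := inj (g := n) (hTP hn) h1 hne
    rw [← this]; exact hn
  · obtain ⟨h1, h2⟩ := mb' hs
    exact mb h1 (e.cent _ h2 (comm' h1 htP hst))
  · obtain ⟨h1, h2⟩ := mb' h
    exact e.tS h2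
  · obtain ⟨h1, h3⟩ := mb' hs
    obtain ⟨g', hg', hgt⟩ := e.good _ h3 (by
      have e1 : pr A t (⟨t, H.t_mem⟩ * ⟨s, hPN h1⟩ * (⟨t, H.t_mem⟩ * ⟨s, hPN h1⟩)) = 1 := by
        rw [pr_eq_one]
        have : ((⟨t, H.t_mem⟩ * ⟨s, hPN h1⟩ * (⟨t, H.t_mem⟩ * ⟨s, hPN h1⟩) : NO A t) : G) = 1 := h2
        rw [this]; exact one_mem _
      rw [map_mul, map_mul] at e1
      exact e1)
    obtain ⟨g, hg, rfl⟩ := lift (mem_sup_left hg')
    refine ⟨g, mb hg hg', inj (mc hg htP) (mul_mem htP h1) ?_⟩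
    rw [pc hg htP, pm htP h1]
    exact hgt
  · obtain ⟨h1, h2⟩ := mb' hyy
    rw [pm (hTP hy) (hTP hy)] at h2
    rcases e.inv _ (hT hy) h2 with h3 | h3
    · exact Or.inl (mb (hTP hy) h3)
    · right
      refine mb (mul_mem htP (hTP hy)) ?_
      rw [pm htP (hTP hy)]; exact h3
  · refine mb (mk (hTP hx) (hTP hy)) ?_
    rw [pk (hTP hx) (hTP hy)]
    exact e.ab _ (hT hx) _ (hT hy)
  · obtain ⟨h1, h2⟩ := mb' hg
    exact mb h1 (e.VS h2)
  · obtain ⟨h1, h2⟩ := mb' hv
    obtain ⟨h3, h4⟩ := mb' hs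
    exact comm h1 h3 (e.Vc _ h2 _ h4)
  · obtain ⟨h1, h2⟩ := mb' hv
    refine mb (mc (hTP hx) h1) ?_
    rw [pc (hTP hx) h1]
    exact e.Vn _ (hT hx) _ h2
  · obtain ⟨h1, h2⟩ := mb' hu
    have h3 : closure {a | ∃ s ∈ S', a = ⁅H.tX, s⁆} ≤ im A t (closure {a | ∃ s ∈ back P S', a = ⁅t, s⁆}) := by
      rw [closure_le]
      rintro _ ⟨s', hs', rfl⟩
      obtain ⟨s, hs, rfl⟩ := lift (mem_sup_left hs')
      have h4 : ⁅t, s⁆ ∈ closure {a | ∃ s ∈ back P S', a = ⁅t, s⁆} := Subgroup.subset_closure ⟨s, mb hs hs', rfl⟩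
      have h5 := pr_mem_im (A := A) (t := t) (n := ⟨⁅t, s⁆, hPN (mk htP hs)⟩) h4
      rw [pk htP hs] at h5
      exact h5
    obtain ⟨n, hn, hne⟩ := mem_im.mp (h3 (e.gen h2))
    have hnP : (n : G) ∈ P := by
      have h6 : closure {a | ∃ s ∈ back P S', a = ⁅t, s⁆} ≤ P := by
        rw [closure_le]
        rintro _ ⟨s, hs, rfl⟩
        exact mk htP (mb' hs).1
      exact h6 hn
    have : (n : G) = u := inj hnP h1 hne
    rw [← this]; exact hn
  · obtain ⟨h1, h2⟩ := mb' hv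
    have h3 : ⁅U', S'⁆ ≤ im A t ⁅back P U', back P S'⁆ := by
      rw [Subgroup.commutator_le]
      intro u' hu' s' hs'
      obtain ⟨s, hs, rfl⟩ := lift (mem_sup_left hs')
      obtain ⟨u, hu, rfl⟩ := lift (mem_sup_left (e.US hu'))
      have h4 : ⁅u, s⁆ ∈ ⁅back P U', back P S'⁆ := Subgroup.commutator_mem_commutator (mb hu hu') (mb hs hs')
      have h5 := pr_mem_im (A := A) (t := t) (n := ⟨⁅u, s⁆, hPN (mk hu hs)⟩) h4
      rw [pk hu hs] at h5
      exact h5
    obtain ⟨n, hn, hne⟩ := mem_im.mp (h3 (e.VU h2))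
    have hnP : (n : G) ∈ P := by
      have h6 : ⁅back P U', back P S'⁆ ≤ P := by
        rw [Subgroup.commutator_le]
        intro a ha b hb
        exact mk (mb' ha).1 (mb' hb).1
      exact h6 hn
    have : (n : G) = v := inj hnP h1 hne
    rw [← this]; exact hn
  · refine mb (hTP hy) (e.fix _ (hT hy) (fun u' hu' => ?_) (fun v' hv' => ?_))
    · obtain ⟨u, hu, rfl⟩ := lift (mem_sup_left (e.US hu'))
      exact comm' (hTP hy) hu (hU u (mb hu hu'))
    · obtain ⟨v, hv, rfl⟩ := lift (mem_sup_left (e.VS hv'))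
      exact comm' (hTP hy) hv (hV v (mb hv hv'))
  · have h1 : Nat.card (back P Z') ≤ Nat.card Z' := by
      refine Nat.card_le_card_of_injective (fun z : back P Z' => (⟨pr A t ⟨z, hPN (mb' z.2).1⟩, (mb' z.2).2⟩ : Z')) ?_
      intro z w hzw
      exact Subtype.ext (inj (mb' z.2).1 (mb' w.2).1 (congrArg Subtype.val hzw))
    have h2 : Nat.card V' ≤ Nat.card (back P V') := by
      have h3 : V' ≤ im A t (back P V') := by
        intro v' hv'
        obtain ⟨v, hv, rfl⟩ := lift (mem_sup_left (e.VS hv'))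
        exact pr_mem_im (mb hv hv')
      have h4 : Nat.card (im A t (back P V')) = Nat.card (back P V') :=
        H.card_im (hP.to_le inf_le_left) (fun g hg => hPN (mb' hg).1)
      rw [← h4]
      exact Subgroup.card_le_of_le h3
    exact lt_of_le_of_lt h1 (lt_of_lt_of_le e.lt h2)

end

section Conf

variable [Finite G] {L A T : Subgroup G} {t : G}

/-- elements of odd order lie in `L` -/
theorem mem_of_odd (C : Conf L A t) {g : G} (hg : Odd (orderOf g)) : g ∈ L := by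
  have := C.normal
  have htt : t * t = 1 := tt C.ht
  have h1 : ∀ g : G, g ∈ L ∨ t * g ∈ L := by
    intro g
    let K : Subgroup G :=
      { carrier := {g | g ∈ L ∨ t * g ∈ L}
        mul_mem' := by
          rintro a b (ha | ha) (hb | hb)
          · exact Or.inl (mul_mem ha hb)
          · right
            have h2 := this.conj_mem a ha t
            have h3 : t * (a * b) = (t * a * t⁻¹) * (t * b) := by group
            rw [h3]; exact mul_mem h2 hb
          · right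
            have h3 : t * (a * b) = t * a * b := by group
            rw [h3]; exact mul_mem ha hb
          · left
            have h2 := this.conj_mem _ ha t
            have h3 : a * b = (t * (t * a) * t⁻¹) * (t * b) := by
              calc a * b = (t * t) * a * b := by rw [htt, one_mul]
                _ = _ := by group
            rw [h3]; exact mul_mem h2 hb
        one_mem' := Or.inl (one_mem _)
        inv_mem' := by
          rintro a (ha | ha)
          · exact Or.inl (inv_mem ha)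
          · right
            have h2 := this.conj_mem _ (inv_mem ha) t
            have h3 : t * a⁻¹ = t * (t * a)⁻¹ * t⁻¹ * (t * t) := by group
            rw [h3, htt, mul_one]; exact h2 }
    have h2 : L ⊔ zpowers t ≤ K := sup_le (fun x hx => Or.inl hx) (by
      rw [zpowers_le]
      right
      rw [htt]; exact one_mem _)
    rw [C.gen] at h2
    exact h2 (mem_top g)
  have h2 : g * g ∈ L := by
    rcases h1 g with h | h
    · exact mul_mem h h
    · have h3 := this.conj_mem _ h t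
      have h4 : g * g = (t * (t * g) * t⁻¹) * (t * g) := by
        calc g * g = (t * t) * g * g := by rw [htt, one_mul]
          _ = _ := by group
      rw [h4]; exact mul_mem h3 h
  obtain ⟨m, hm⟩ := hg
  have h3 : g = (g * g) ^ (m + 1) := by
    rw [← pow_two, ← pow_mul, show 2 * (m + 1) = orderOf g + 1 by omega, pow_succ, pow_orderOf_eq_one, one_mul]
  rw [h3]
  exact pow_mem h2 _

theorem perfect (C : Conf L A t) : commutator ↥L = ⊤ := by
  have := C.simple
  rcases (inferInstance : (commutator ↥L).Normal).eq_bot_or_eq_top with h | h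
  · exfalso
    apply C.not_comm
    rw [commutator_eq_bot_iff_center_eq_top] at h
    refine ⟨⟨fun a b => ?_⟩⟩
    have : b ∈ center ↥L := by rw [h]; exact mem_top _
    exact mem_center_iff.mp this a
  · exact h

/-- elements with image in `im L` lie in `L` -/
theorem mem_L (C : Conf L A t) (H : Hyp A t T) {g : G} (hg : g ∈ NO A t) (hL : pr A t ⟨g, hg⟩ ∈ im A t L) : g ∈ L := by
  obtain ⟨n, hn, hne⟩ := mem_im.mp hL
  have h1 : pr A t (⟨g, hg⟩ * n⁻¹) = 1 := by rw [map_mul, map_inv, hne, mul_inv_cancel]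
  have h2 : g * (n : G)⁻¹ ∈ core A t := pr_eq_one.mp h1
  have h3 := mem_of_odd C (H.mem_core.mp h2).2.2
  have h4 : g = g * (n : G)⁻¹ * n := by group
  rw [h4]
  exact mul_mem h3 hn

/-- **The end in `X` gives the end in `G`.** -/
theorem main (C : Conf L A t) (H : Hyp A t T) {U' S' V' Z' : Subgroup (XQ A t)}
    (e : End H.tX (im A t T) U' S' V' Z') (hSL : S' ≤ im A t L) :
    ∃ S : Subgroup G, IsSyl S L ∧ t ∉ L ∧ S ≤ NO A t ∧ im A t S = S' ∧ Nonempty (S ≃* S') ∧
      IsSyl (im A t T ⊔ S') ⊤ := by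
  obtain ⟨P, hP, hPN, hTP, hPi⟩ := H.exists_lift (Y' := S' ⊔ im A t T) e.two_P H.isT.syl.two H.T_le le_sup_right
  have e' := lift_end H e hP hPN hTP hPi
  have hSN : back P S' ≤ NO A t := fun g hg => (mem_back.mp hg).2.choose
  have hSL' : back P S' ≤ L := by
    intro g hg
    obtain ⟨h1, h2, h3⟩ := mem_back.mp hg
    exact mem_L C H h2 (hSL h3)
  have hLn := C.normal
  obtain ⟨h1, h2⟩ := e'.main (perfect C) hSL'
  have h3 : im A t (back P S') = S' := by
    apply le_antisymm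
    · intro y hy
      obtain ⟨n, hn, rfl⟩ := mem_im.mp hy
      exact (mem_back.mp hn).2.choose_spec
    · intro y hy
      have h4 : y ∈ im A t P := by rw [hPi]; exact mem_sup_left hy
      obtain ⟨n, hn, rfl⟩ := mem_im.mp h4
      exact pr_mem_im (mem_back.mpr ⟨hn, n.2, hy⟩)
  refine ⟨back P S', h1, h2, hSN, h3, ?_, ?_⟩
  · obtain ⟨f, -⟩ := H.exists_equiv_im h1.two hSN
    exact ⟨f.trans (MulEquiv.subgroupCongr h3)⟩
  · rw [sup_comm]
    exact e.isSyl_P

end Conf

end Cfsg.Agent.StdEven.EndLift
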