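import Cfsg.Agent.StdEven.Loc
import Cfsg.Agent.Schreier.Tools

/-!
# Perfect subgroups of the centralizer of the involution; fusion of `t` to outer elements
-/

set_option autoImplicit false
set_option linter.unusedSectionVars false

namespace Cfsg.Agent.StdEven.Perf

open Cfsg Subgroup Cfsg.Agent.SignalizersComponents Cfsg.Agent.StdEven.Syl Cfsg.Agent.StdEven.Loc
open Cfsg.Agent.Schreier.Basic

/-- Subgroups of 2-power order of the image of a group with cyclic Sylow 2-subgroups are cyclic. -/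
theorem isCyclic_of_map {K X : Type*} [Group K] [Finite K] [Group X] (f : K →* X)
    (hK : ∀ P : Sylow 2 K, IsCyclic (P : Subgroup K)) {Q : Subgroup X} (hQ : IsPGroup 2 Q) (hQf : Q ≤ f.range) :
    IsCyclic Q := by
  have : Fact (Nat.Prime 2) := ⟨Nat.prime_two⟩
  have h1 : IsPGroup 2 (Q.subgroupOf f.range) := hQ.comap_subtype
  obtain ⟨P', hP'⟩ := h1.exists_le_sylow
  obtain ⟨P, hP⟩ := Sylow.mapSurjective_surjective f.rangeRestrict_surjective 2 P'
  have h2 := hK P
  have h3 : IsCyclic (P' : Subgroup f.range) := by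
    rw [← hP]
    exact isCyclic_of_surjective (f.rangeRestrict.subgroupMap (P : Subgroup K))
      (f.rangeRestrict.subgroupMap_surjective (P : Subgroup K))
  have h4 : IsCyclic (Q.subgroupOf f.range) :=
    isCyclic_of_injective (Subgroup.inclusion hP') (Subgroup.inclusion_injective hP')
  exact isCyclic_of_surjective (Subgroup.subgroupOfEquivOfLe hQf) (Subgroup.subgroupOfEquivOfLe hQf).surjective

/-- A perfect group with cyclic Sylow 2-subgroups has odd order. -/
theorem odd_card_of_perfect {Y : Type*} [Group Y] [Finite Y] (hY : ⁅(⊤ : Subgroup Y), (⊤ : Subgroup Y)⁆ = ⊤)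
    (hc : ∀ P : Sylow 2 Y, IsCyclic (P : Subgroup Y)) : Odd (Nat.card Y) := by
  by_contra hodd
  rw [Nat.not_odd_iff_even] at hodd
  have hmin : (Nat.card Y).minFac = 2 := Nat.minFac_eq_two_iff _ |>.mpr hodd.two_dvd
  have : Fact (Nat.Prime 2) := ⟨Nat.prime_two⟩
  obtain ⟨P⟩ : Nonempty (Sylow 2 Y) := inferInstance
  have hP := hc P
  have h1 := IsCyclic.isComplement' hmin (P := P) hP
  have h2 : (MonoidHom.transferSylow P (IsCyclic.normalizer_le_centralizer hmin hP)).ker = ⊤ := by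
    rw [eq_top_iff, ← hY]
    have := hP
    let _ : CommGroup (P : Subgroup Y) := IsCyclic.commGroup
    exact Abelianization.commutator_subset_ker _
  rw [h2] at h1
  have h3 : (P : Subgroup Y) = ⊥ := by
    have := h1.disjoint
    rwa [top_disjoint] at this
  have h4 := P.not_dvd_index
  rw [h3, index_bot] at h4
  exact h4 hodd.two_dvd

variable {G : Type*} [Group G] [Finite G] {A : Subgroup G} {t : G}

/-- A perfect subgroup of `C(t)` generated by 2-elements lies in `A`. -/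
theorem le_of_perfect (hA : IsStandardSubgroup A) (ht : orderOf t = 2) (htA : t ∈ centralizer (A : Set G))
    (cyc : ∀ R : Sylow 2 ↥(centralizer (A : Set G)), IsCyclic ↥(R : Subgroup ↥(centralizer (A : Set G))))
    (hS : Sch ↥A) {D : Subgroup G} (hD : ⁅D, D⁆ = D) (hDt : ∀ x ∈ D, x * t = t * x)
    (hD2 : D ≤ closure {x | x ∈ D ∧ ∃ k : ℕ, x ^ 2 ^ k = 1}) : D ≤ A := by
  have hDN : D ≤ normalizer (A : Set G) := fun x hx => mem_normalizer_of_comm hA ht htA (hDt x hx)
  have hKN : centralizer (A : Set G) ≤ normalizer (A : Set G) := by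
    rw [hA.2.2.2]; exact le_normalizer
  -- every element of `D` induces an inner automorphism
  have hinner : ∀ x ∈ D, ∃ a ∈ A, a⁻¹ * x ∈ centralizer (A : Set G) := by
    let f : ↥(normalizer (A : Set G)) →* MulAut ↥A := A.normalizerMonoidHom
    have h1 : ⁅(D.subgroupOf (normalizer (A : Set G))).map f, (D.subgroupOf (normalizer (A : Set G))).map f⁆ =
        (D.subgroupOf (normalizer (A : Set G))).map f := by
      apply map_perfect
      apply Subgroup.map_injective (normalizer (A : Set G)).subtype_injective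
      rw [Subgroup.map_commutator, subgroupOf_map_subtype, inf_eq_left.mpr hDN, hD]
    have h2 := hS _ h1
    intro x hx
    obtain ⟨a, ha⟩ := h2 ⟨⟨x, hDN hx⟩, mem_subgroupOf.mpr hx, rfl⟩
    refine ⟨a, a.2, ?_⟩
    rw [mem_centralizer_iff]
    intro b hb
    have h3 := congrArg (fun φ : MulAut ↥A => ((φ ⟨b, hb⟩ : A) : G)) ha
    have h4 : (a : G) * b * (a : G)⁻¹ = x * b * x⁻¹ := h3
    calc b * ((a : G)⁻¹ * x) = (a : G)⁻¹ * (a * b * (a : G)⁻¹) * x := by group
      _ = (a : G)⁻¹ * (x * b * x⁻¹) * x := by rw [h4]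
      _ = (a : G)⁻¹ * x * b := by group
  -- pass to `N(A) / A`
  set N := normalizer (A : Set G) with hN
  have hAn : (A.subgroupOf N).Normal := normal_in_normalizer
  let q : N →* N ⧸ A.subgroupOf N := QuotientGroup.mk' (A.subgroupOf N)
  let f : ↥(centralizer (A : Set G)) →* N ⧸ A.subgroupOf N := q.comp (Subgroup.inclusion hKN)
  set E := (D.subgroupOf N).map q with hE
  have hEf : E ≤ f.range := by
    rintro _ ⟨⟨x, hxN⟩, hx, rfl⟩
    obtain ⟨a, ha, hax⟩ := hinner x (mem_subgroupOf.mp hx)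
    refine ⟨⟨a⁻¹ * x, hax⟩, ?_⟩
    show QuotientGroup.mk' (A.subgroupOf N) _ = QuotientGroup.mk' (A.subgroupOf N) _
    rw [QuotientGroup.mk'_apply, QuotientGroup.mk'_apply, QuotientGroup.eq, mem_subgroupOf]
    show (a⁻¹ * x)⁻¹ * x ∈ A
    have h1 : (a⁻¹ * x)⁻¹ * x = x⁻¹ * a * x := by group
    rw [h1]
    exact conj_inv_mem_of_mem_normalizer hxN ha
  have hEp : ⁅E, E⁆ = E := by
    apply map_perfect
    apply Subgroup.map_injective N.subtype_injective
    rw [Subgroup.map_commutator, subgroupOf_map_subtype, inf_eq_left.mpr hDN, hD]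
  have hodd : Odd (Nat.card E) := by
    apply odd_card_of_perfect (Schreier.Tools.top_perfect hEp)
    intro P
    have h1 : IsPGroup 2 ((P : Subgroup E).map E.subtype) := P.isPGroup'.map _
    have h2 : (P : Subgroup E).map E.subtype ≤ f.range := by
      rintro _ ⟨x, -, rfl⟩
      exact hEf x.2
    have h3 := isCyclic_of_map f cyc h1 h2
    exact isCyclic_of_surjective ((P : Subgroup E).equivMapOfInjective E.subtype E.subtype_injective).symm
      ((P : Subgroup E).equivMapOfInjective E.subtype E.subtype_injective).symm.surjective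
  have hsub : closure {x | x ∈ D ∧ ∃ k : ℕ, x ^ 2 ^ k = 1} ≤ A := by
    rw [closure_le]
    rintro x ⟨hx, k, hk⟩
    have h1 : q ⟨x, hDN hx⟩ ∈ E := ⟨_, mem_subgroupOf.mpr hx, rfl⟩
    have h2 : orderOf (q ⟨x, hDN hx⟩) ∣ Nat.card E := Subgroup.orderOf_dvd_natCard _ h1
    have h3 : orderOf (q ⟨x, hDN hx⟩) ∣ 2 ^ k := by
      apply orderOf_dvd_of_pow_eq_one
      rw [← map_pow]
      have : (⟨x, hDN hx⟩ : N) ^ 2 ^ k = 1 := Subtype.ext hk
      rw [this, map_one]
    have h4 : orderOf (q ⟨x, hDN hx⟩) = 1 :=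
      Nat.eq_one_of_dvd_coprimes (Nat.Coprime.pow_left k (Nat.coprime_two_left.mpr hodd)) h3 h2
    rw [orderOf_eq_one_iff] at h4
    have h5 : (⟨x, hDN hx⟩ : N) ∈ A.subgroupOf N := (QuotientGroup.eq_one_iff _).mp h4
    exact mem_subgroupOf.mp h5
  exact hD2.trans hsub

/-- **Lemma F** (helper846).  If `t` is conjugate to `f`, `B ≤ A` is perfect, generated by 2-elements and centralized by
`f`, `w ∈ B` is an involution and `f` is conjugate to `f * w`, then `t` is conjugate to `t * a` for an involution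
`a ∈ A`. -/
theorem exists_conj_mul (hA : IsStandardSubgroup A) (ht : orderOf t = 2) (htA : t ∈ centralizer (A : Set G))
    (cyc : ∀ R : Sylow 2 ↥(centralizer (A : Set G)), IsCyclic ↥(R : Subgroup ↥(centralizer (A : Set G))))
    (hS : Sch ↥A) {f g : G} (hf : g * t * g⁻¹ = f) {B : Subgroup G} (hB : ⁅B, B⁆ = B) (hBf : ∀ x ∈ B, x * f = f * x)
    (hB2 : B ≤ closure {x | x ∈ B ∧ ∃ k : ℕ, x ^ 2 ^ k = 1}) {w : G} (hw : w ∈ B) (hww : w * w = 1) (hw1 : w ≠ 1)
    {c : G} (hc : c * f * c⁻¹ = f * w) :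
    ∃ a ∈ A, a * a = 1 ∧ a ≠ 1 ∧ ∃ y : G, y * t * y⁻¹ = t * a := by
  have hle : B.map (MulAut.conj g⁻¹).toMonoidHom ≤ A := by
    apply le_of_perfect hA ht htA cyc hS (map_perfect _ hB)
    · rintro _ ⟨x, hx, rfl⟩
      show g⁻¹ * x * g⁻¹⁻¹ * t = t * (g⁻¹ * x * g⁻¹⁻¹)
      have h1 := hBf x hx
      rw [← hf] at h1
      calc g⁻¹ * x * g⁻¹⁻¹ * t = g⁻¹ * (x * (g * t * g⁻¹)) * g := by group
        _ = g⁻¹ * (g * t * g⁻¹ * x) * g := by rw [h1]
        _ = t * (g⁻¹ * x * g⁻¹⁻¹) := by group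
    · rintro _ ⟨x, hx, rfl⟩
      have h1 := hB2 hx
      have h2 : closure {x | x ∈ B ∧ ∃ k : ℕ, x ^ 2 ^ k = 1} ≤
          (closure {x | x ∈ B.map (MulAut.conj g⁻¹).toMonoidHom ∧ ∃ k : ℕ, x ^ 2 ^ k = 1}).comap
            (MulAut.conj g⁻¹).toMonoidHom := by
        rw [closure_le]
        rintro y ⟨hy, k, hk⟩
        apply Subgroup.subset_closure
        refine ⟨⟨y, hy, rfl⟩, k, ?_⟩
        rw [← map_pow, hk, map_one]
      exact h2 h1
  have ha : g⁻¹ * w * g ∈ A := by
    have := hle ⟨w, hw, rfl⟩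
    have h1 : (MulAut.conj g⁻¹).toMonoidHom w = g⁻¹ * w * g⁻¹⁻¹ := rfl
    rwa [h1, inv_inv] at this
  refine ⟨g⁻¹ * w * g, ha, ?_, ?_, g⁻¹ * c * g, ?_⟩
  · calc g⁻¹ * w * g * (g⁻¹ * w * g) = g⁻¹ * (w * w) * g := by group
      _ = 1 := by rw [hww]; group
  · intro h
    apply hw1
    have : w = g * (g⁻¹ * w * g) * g⁻¹ := by group
    rw [this, h]; group
  · calc g⁻¹ * c * g * t * (g⁻¹ * c * g)⁻¹ = g⁻¹ * (c * (g * t * g⁻¹) * c⁻¹) * g := by group
      _ = g⁻¹ * (g * t * g⁻¹ * w) * g := by rw [hf, hc]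
      _ = t * (g⁻¹ * w * g) := by group

end Cfsg.Agent.StdEven.Perf
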