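import Mathlib

/-!
# Averaging over an odd number of cosets (Gaschütz), and the exclusion lemma P1
-/

set_option autoImplicit false
set_option linter.unusedSectionVars false

namespace Cfsg.Agent.StdEven.Avg

open Subgroup

variable {G : Type*} [Group G] [Finite G]

/-- `V` is commutative, normalised by `N`; `T ≤ N` has odd index in `N` and centralises the involution `t ∈ V`; the
conjugates of `t` under `N` lie in `t W`.  Then some element of `t W` is centralised by `N`. -/
theorem exists_fixed {N V T W : Subgroup G} {t : G} (hV : ∀ x ∈ V, ∀ y ∈ V, x * y = y * x)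
    (hNV : ∀ n ∈ N, ∀ v ∈ V, n * v * n⁻¹ ∈ V) (hodd : Odd (T.relIndex N)) (htV : t ∈ V)
    (hTt : ∀ x ∈ T, x * t = t * x) (ht : t * t = 1)
    (horb : ∀ n ∈ N, t * (n * t * n⁻¹) ∈ W) : ∃ w ∈ W, ∀ n ∈ N, n * (t * w) = t * w * n := by
  classical
  let _ : CommGroup V := { (inferInstance : Group V) with
    mul_comm := fun a b => Subtype.ext (hV a a.2 b b.2) }
  let Q := N ⧸ T.subgroupOf N
  have hQ : Fintype Q := Fintype.ofFinite Q
  -- the conjugate attached to a coset
  have hwd : ∀ a b : N, QuotientGroup.leftRel (T.subgroupOf N) a b →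
      (a : G) * t * (a : G)⁻¹ = b * t * (b : G)⁻¹ := by
    intro a b hab
    rw [QuotientGroup.leftRel_apply, mem_subgroupOf] at hab
    have h1 : ((a : G)⁻¹ * b) * t = t * ((a : G)⁻¹ * b) := hTt _ hab
    calc (a : G) * t * (a : G)⁻¹ = a * (t * ((a : G)⁻¹ * b)) * (b : G)⁻¹ := by group
      _ = a * (((a : G)⁻¹ * b) * t) * (b : G)⁻¹ := by rw [h1]
      _ = b * t * (b : G)⁻¹ := by group
  let f : Q → V := Quotient.lift (fun a : N => (⟨a * t * (a : G)⁻¹, hNV a a.2 t htV⟩ : V))
    (fun a b hab => Subtype.ext (hwd a b hab))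
  have hf : ∀ a : N, ((f (QuotientGroup.mk a) : V) : G) = a * t * (a : G)⁻¹ := fun a => rfl
  let P : V := ∏ q : Q, f q
  -- conjugation by elements of `N`
  have hP : ∀ n ∈ N, n * (P : G) * n⁻¹ = P := by
    intro n hn
    let c : V →* V :=
      { toFun := fun v => ⟨n * v * n⁻¹, hNV n hn v v.2⟩
        map_one' := Subtype.ext (by simp)
        map_mul' := fun a b => Subtype.ext (by
          show n * (a * b : G) * n⁻¹ = n * a * n⁻¹ * (n * b * n⁻¹)
          group) }
    have h1 : c P = P := by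
      show c (∏ q : Q, f q) = ∏ q : Q, f q
      rw [map_prod]
      have h2 : ∀ q : Q, c (f q) = f ((⟨n, hn⟩ : N) • q) := by
        intro q
        induction q using QuotientGroup.induction_on with
        | H a =>
          apply Subtype.ext
          show n * (a * t * (a : G)⁻¹) * n⁻¹ = (n * a) * t * (n * a)⁻¹
          group
      rw [Finset.prod_congr rfl fun q _ => h2 q]
      exact Equiv.prod_comp (MulAction.toPerm (⟨n, hn⟩ : N)) f
    exact congrArg Subtype.val h1
  -- the product lies in `t W`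
  have hsum : ∃ w ∈ W, (P : G) = t * w := by
    let W' : Subgroup V := W.subgroupOf V
    let tV : V := ⟨t, htV⟩
    have htt : tV * tV = 1 := Subtype.ext ht
    have h1 : ∀ q : Q, ∃ w ∈ W', f q = tV * w := by
      intro q
      induction q using QuotientGroup.induction_on with
      | H a =>
        refine ⟨tV * f (QuotientGroup.mk a), ?_, ?_⟩
        · exact horb a a.2
        · rw [← mul_assoc, htt, one_mul]
    choose w hw hfw using h1
    have h2 : P = tV ^ (Fintype.card Q) * ∏ q : Q, w q := by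
      show ∏ q : Q, f q = _
      rw [Finset.prod_congr rfl fun q _ => hfw q, Finset.prod_mul_distrib, Finset.prod_const, Finset.card_univ]
    have h3 : tV ^ (Fintype.card Q) = tV := by
      have h4 : Fintype.card Q = T.relIndex N := by
        rw [← Nat.card_eq_fintype_card]; rfl
      rw [h4]
      obtain ⟨k, hk⟩ := hodd
      rw [hk, pow_succ, pow_mul, pow_two, htt, one_pow, one_mul]
    have h5 : ∏ q : Q, w q ∈ W' := Subgroup.prod_mem _ fun q _ => hw q
    refine ⟨((∏ q : Q, w q : V) : G), h5, ?_⟩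
    rw [h2, h3]
    rfl
  obtain ⟨w, hw, hPw⟩ := hsum
  refine ⟨w, hw, fun n hn => ?_⟩
  have := hP n hn
  rw [hPw] at this
  rwa [mul_inv_eq_iff_eq_mul] at this

/-- **P1.** `J = W ∪ tW`, the elements of `N(J) ∩ C(t)` normalise `W`, and every `w ∈ W#` is of the form `[y, v]` with
`v ∈ W`, `y ∈ C(t) ∩ C(w)` normalising `W`: then `t` is not conjugate in `N(J)` to an element of `W`. -/
theorem conj_not_mem {W J : Subgroup G} {t : G} (ht1 : t ∉ W) (htJ : t ∈ J) (hWJ : W ≤ J)
    (hJ : ∀ x ∈ J, x ∈ W ∨ t * x ∈ W)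
    (hN : ∀ g : G, g * t = t * g → g ∈ normalizer (J : Set G) → ∀ w ∈ W, g * w * g⁻¹ ∈ W)
    (hc : ∀ w ∈ W, w ≠ 1 → ∃ y : G, y * t = t * y ∧ (∀ v ∈ W, y * v * y⁻¹ ∈ W) ∧ y * w = w * y ∧
      ∃ v ∈ W, y * v * y⁻¹ = w * v)
    {g : G} (hg : g ∈ normalizer (J : Set G)) : g * t * g⁻¹ ∉ W := by
  intro hw
  set w := g * t * g⁻¹ with hwdef
  have hw1 : w ≠ 1 := by
    intro h
    apply ht1
    rw [hwdef, mul_inv_eq_one, mul_eq_left] at h
    rw [h]; exact one_mem W
  obtain ⟨y, hyt, hyW, hyw, v, hv, hyv⟩ := hc w hw hw1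
  -- `y` normalises `J`
  have hyJ : y ∈ normalizer (J : Set G) := by
    have key : ∀ x ∈ J, y * x * y⁻¹ ∈ J := by
      intro x hx
      rcases hJ x hx with h | h
      · exact hWJ (hyW x h)
      · have h1 := hyW _ h
        have h2 : y * x * y⁻¹ = t⁻¹ * (y * (t * x) * y⁻¹) := by
          have : y * (t * x) * y⁻¹ = t * (y * x * y⁻¹) := by
            calc y * (t * x) * y⁻¹ = (y * t) * x * y⁻¹ := by group
              _ = t * (y * x * y⁻¹) := by rw [hyt]; group
          rw [this]; group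
        rw [h2]
        exact mul_mem (inv_mem htJ) (hWJ h1)
    have h1 : J.map (MulAut.conj y).toMonoidHom = J := by
      apply Subgroup.eq_of_le_of_card_ge
      · rintro _ ⟨x, hx, rfl⟩
        exact key x hx
      · exact (Nat.card_congr (J.equivMapOfInjective (MulAut.conj y).toMonoidHom (MulAut.conj y).injective).toEquiv).le
    rw [mem_normalizer_iff]
    intro x
    refine ⟨key x, fun hx => ?_⟩
    rw [← h1] at hx
    obtain ⟨z, hz, hzx⟩ := hx
    have : z = x := (MulAut.conj y).injective hzx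
    rwa [← this]
  -- the conjugate of `y`
  set y' := g⁻¹ * y * g with hy'
  have hy't : y' * t = t * y' := by
    have h1 : t = g⁻¹ * w * g := by rw [hwdef]; group
    calc y' * t = g⁻¹ * (y * w) * g := by rw [hy', h1]; group
      _ = g⁻¹ * (w * y) * g := by rw [hyw]
      _ = t * y' := by rw [hy', h1]; group
  have hy'J : y' ∈ normalizer (J : Set G) := mul_mem (mul_mem (inv_mem hg) hyJ) hg
  have hW' := hN y' hy't hy'J
  -- `u := g⁻¹ v g` lies in `J`
  have huJ : g⁻¹ * v * g ∈ J := by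
    have := (mem_normalizer_iff.mp (inv_mem hg) v).mp (hWJ hv)
    rwa [inv_inv] at this
  have hyu : y' * (g⁻¹ * v * g) * y'⁻¹ = t * (g⁻¹ * v * g) := by
    calc y' * (g⁻¹ * v * g) * y'⁻¹ = g⁻¹ * (y * v * y⁻¹) * g := by rw [hy']; group
      _ = g⁻¹ * (w * v) * g := by rw [hyv]
      _ = t * (g⁻¹ * v * g) := by rw [hwdef]; group
  apply ht1
  rcases hJ _ huJ with h | h
  · have h1 := hW' _ h
    rw [hyu] at h1
    have h2 := mul_mem h1 (inv_mem h)
    rwa [mul_inv_cancel_right] at h2
  · have h1 := hW' _ h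
    have h2 : y' * (t * (g⁻¹ * v * g)) * y'⁻¹ = t * (t * (g⁻¹ * v * g)) := by
      calc y' * (t * (g⁻¹ * v * g)) * y'⁻¹ = (y' * t) * (g⁻¹ * v * g) * y'⁻¹ := by group
        _ = (t * y') * (g⁻¹ * v * g) * y'⁻¹ := by rw [hy't]
        _ = t * (y' * (g⁻¹ * v * g) * y'⁻¹) := by group
        _ = t * (t * (g⁻¹ * v * g)) := by rw [hyu]
    rw [h2] at h1
    have h3 := mul_mem h1 (inv_mem h)
    rwa [mul_inv_cancel_right] at h3

end Cfsg.Agent.StdEven.Avg
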