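import Mathlib
import Cfsg.Agent.StdL3.OneParity
import Cfsg.Agent.ClassificationK.SymplTransfer

/-!
# S1778, type independent end lemmas

`S` a 2-subgroup of the finite group `G`, `T ≤ S`, `t ∈ S`, and the hypothesis
(★) `g t g⁻¹ ∈ S → ∃ x ∈ T, g t g⁻¹ = x t x⁻¹`.

* `exists_sylow` (K1): if `C_S(t)` is a maximal 2-subgroup of `C_G(t)`, `S` is a Sylow 2-subgroup of `G`.
* `not_mem` (K2): `L` perfect, `φ : S → A` abelian with `φ t ≠ 1`: then `t ∉ L`.
* `no_outer` (K3): `L` normal and perfect, `ψ : S ∩ L → A` abelian with kernel `T`; an involution `f ∈ S ∩ L`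
  commuting with `t`, such that `ψ f` is the only involution among the values of `ψ`, is `C_G(t)`-conjugate into `T`.
-/

set_option autoImplicit false

namespace Cfsg.Agent.StdEven.OuterKill

open Subgroup MulAction

/-! ### (K1) -/

theorem exists_sylow {G : Type*} [Group G] [Finite G] {S T : Subgroup G} {t : G} (hS : IsPGroup 2 S) (hTS : T ≤ S)
    (htS : t ∈ S)
    (hstar : ∀ g : G, g * t * g⁻¹ ∈ S → ∃ x ∈ T, g * t * g⁻¹ = x * t * x⁻¹)
    (hC : ∀ Q : Subgroup G, IsPGroup 2 Q → (∀ z ∈ Q, z * t = t * z) → (∀ z ∈ S, z * t = t * z → z ∈ Q) → Q ≤ S) :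
    ∃ P : Sylow 2 G, (P : Subgroup G) = S := by
  have : Fact (Nat.Prime 2) := ⟨Nat.prime_two⟩
  obtain ⟨P, hSP⟩ := hS.exists_le_sylow
  refine ⟨P, ?_⟩
  by_contra hne
  have hlt : S < (P : Subgroup G) := lt_of_le_of_ne hSP (Ne.symm hne)
  -- the normalizer grows
  have : Finite (P : Subgroup G) := inferInstance
  have : Group.IsNilpotent (P : Subgroup G) := P.isPGroup'.isNilpotent
  have hlt' : S.subgroupOf (P : Subgroup G) < ⊤ := by
    rw [lt_top_iff_ne_top, Ne, subgroupOf_eq_top]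
    exact fun h => hne (le_antisymm h hSP)
  have hN := Group.normalizerCondition_of_isNilpotent (G := (P : Subgroup G)) _ hlt'
  obtain ⟨z, hzN, hzS⟩ := SetLike.exists_of_lt hN
  have hzS' : (z : G) ∉ S := fun h => hzS (mem_subgroupOf.2 h)
  have hzn : ∀ x ∈ S, (z : G) * x * (z : G)⁻¹ ∈ S := by
    intro x hx
    have h1 := (mem_normalizer_iff.1 hzN ⟨x, hSP hx⟩).1 (mem_subgroupOf.2 hx)
    exact mem_subgroupOf.1 h1
  obtain ⟨x, hxT, hx⟩ := hstar z (hzn t htS)
  have hxS := hTS hxT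
  -- `y := x⁻¹ z` centralises `t`
  set y : G := x⁻¹ * z with hy
  have hyt : y * t = t * y := by
    have h1 : y * t * y⁻¹ = t := by
      calc y * t * y⁻¹ = x⁻¹ * (z * t * (z : G)⁻¹) * x := by rw [hy]; group
        _ = t := by rw [hx]; group
    calc y * t = (y * t * y⁻¹) * y := by group
      _ = t * y := by rw [h1]
  have hyP : y ∈ (P : Subgroup G) := mul_mem (inv_mem (hSP hxS)) z.2
  have hyn : ∀ s ∈ S, y * s * y⁻¹ ∈ S := by
    intro s hs
    have e : y * s * y⁻¹ = x⁻¹ * (z * s * (z : G)⁻¹) * x := by rw [hy]; group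
    rw [e]
    exact mul_mem (mul_mem (inv_mem hxS) (hzn s hs)) hxS
  have hyS : y ∉ S := by
    intro h
    apply hzS'
    have : (z : G) = x * y := by rw [hy]; group
    rw [this]; exact mul_mem hxS h
  let Q : Subgroup G := (P : Subgroup G) ⊓ centralizer ({t} : Set G)
  have hQ : IsPGroup 2 Q := P.isPGroup'.to_le inf_le_left
  apply hyS
  refine hC Q hQ (fun z hz => ?_) (fun z hz hzt => ?_) ?_
  · exact (mem_centralizer_singleton_iff.1 hz.2)
  · exact ⟨hSP hz, mem_centralizer_singleton_iff.2 hzt⟩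
  · exact ⟨hyP, mem_centralizer_singleton_iff.2 hyt⟩

/-! ### (K2) -/

theorem hom_eq_one {L A : Type*} [Group L] [CommGroup A] (hL : commutator L = ⊤) (f : L →* A) (x : L) : f x = 1 := by
  have h : x ∈ commutator L := by rw [hL]; trivial
  exact Abelianization.commutator_subset_ker f h

theorem not_mem {G A : Type*} [Group G] [Finite G] [CommGroup A] {P : Sylow 2 G} {T L : Subgroup G} {t : G} (hTP : T ≤ (P : Subgroup G))
    (ht2 : t * t = 1) (htP : t ∈ (P : Subgroup G))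
    (hstar : ∀ g : G, g * t * g⁻¹ ∈ (P : Subgroup G) → ∃ x ∈ T, g * t * g⁻¹ = x * t * x⁻¹)
    (hL : commutator L = ⊤) (φ : (P : Subgroup G) →* A) (hφ : φ ⟨t, htP⟩ ≠ 1) : t ∉ L := by
  have : Fact (Nat.Prime 2) := ⟨Nat.prime_two⟩
  intro htL
  have hodd : Odd (P : Subgroup G).index := by
    rw [← Nat.not_even_iff_odd, even_iff_two_dvd]
    exact P.not_dvd_index
  have h2 : φ ⟨t, htP⟩ ^ 2 = 1 := by
    rw [← map_pow]
    have : (⟨t, htP⟩ : (P : Subgroup G)) ^ 2 = 1 := Subtype.ext (by simp [pow_two, ht2])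
    rw [this, map_one]
  have key := Cfsg.Agent.ClassificationK.SymplTransfer.transfer_eq φ hodd (u := t)
    (by rw [show 4 = 2 * 2 from rfl, pow_mul, pow_two t, ht2, one_pow]) h2 (by
      intro g hg
      obtain ⟨x, hx, hxg⟩ := hstar g⁻¹ (by rwa [inv_inv])
      rw [inv_inv] at hxg
      have e : (⟨g⁻¹ * t * g, hg⟩ : (P : Subgroup G)) = ⟨x, hTP hx⟩ * ⟨t, htP⟩ * ⟨x, hTP hx⟩⁻¹ := Subtype.ext hxg
      rw [e, map_mul, map_mul, map_inv, mul_comm (φ ⟨x, hTP hx⟩), mul_inv_cancel_right]) (by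
      intro g hg
      have e : (⟨g⁻¹ * t ^ 2 * g, hg⟩ : (P : Subgroup G)) = 1 := Subtype.ext (by simp [pow_two, ht2])
      rw [e, map_one])
  have h3 : ((MonoidHom.transfer φ).comp L.subtype) ⟨t, htL⟩ = 1 := hom_eq_one hL _ _
  apply hφ
  rw [← key]
  exact h3

/-! ### (K3) -/

theorem card_mod_two {α : Type*} [Fintype α] [DecidableEq α] (f : α → α) (hf : ∀ x, f (f x) = x) :
    Fintype.card α % 2 = Fintype.card {x // f x = x} % 2 := by
  have : Fact (Nat.Prime 2) := ⟨Nat.prime_two⟩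
  let f' : Function.End α := f
  have hf' : f' ^ 2 ^ 1 = 1 := by
    have h1 : f' ^ 2 ^ 1 = f' * f' := by rw [pow_one, pow_two]
    rw [h1]
    funext x
    exact hf x
  have h := Equiv.Perm.card_fixedPoints_modEq (α := α) (f := f') (p := 2) (n := 1) hf'
  have h2 : Fintype.card (Function.fixedPoints f) = Fintype.card {x // f x = x} :=
    Fintype.card_congr (Equiv.refl _)
  have h3 : Fintype.card α % 2 = Fintype.card (Function.fixedPoints f) % 2 := h
  rw [h3, h2]

theorem parity {L A : Type*} [Group L] [Finite L] [CommGroup A] (H : Subgroup L) (hodd : Odd H.index) (ψ : H →* A)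
    {ω : A} (hω : ω ≠ 1) {f : L} (hf : f * f = 1)
    (hval : ∀ g : L, ∀ hg : g⁻¹ * f * g ∈ H, ψ ⟨_, hg⟩ = 1 ∨ ψ ⟨_, hg⟩ = ω)
    (b : L ≃* L) (hb2 : ∀ x, b (b x) = x) (hbf : b f = f) (hbH : ∀ x ∈ H, b x ∈ H)
    (hψ : ∀ (x : L) (hx : x ∈ H), ψ ⟨x, hx⟩ = 1 → ψ ⟨b x, hbH x hx⟩ = 1)
    (hno : ∀ g : L, g⁻¹ * b g ∈ H → ∀ hg : g⁻¹ * f * g ∈ H, ψ ⟨_, hg⟩ ≠ 1) :
    MonoidHom.transfer ψ f ≠ 1 := by
  classical
  have hfi : f⁻¹ = f := inv_eq_of_mul_eq_one_right hf
  have := Fintype.ofFinite (L ⧸ H)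
  obtain ⟨F, hF, hprod⟩ := Cfsg.Agent.StdL3.OneParity.transfer_eq_prod_fixed H ψ f hf
  -- fixed cosets
  have hfix : ∀ g : L, f • (g : L ⧸ H) = (g : L ⧸ H) ↔ g⁻¹ * f * g ∈ H := by
    intro g
    rw [MulAction.Quotient.smul_mk, smul_eq_mul, QuotientGroup.eq]
    have : (f * g)⁻¹ * g = g⁻¹ * f * g := by rw [mul_inv_rev, hfi]
    rw [this]
  -- the map induced by `b`
  let β : L ⧸ H → L ⧸ H := Quotient.map' (fun g => b g) (by
    intro g g' h
    rw [QuotientGroup.leftRel_apply] at h ⊢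
    have := hbH _ h
    rwa [map_mul, map_inv] at this)
  have hβ : ∀ g : L, β (g : L ⧸ H) = ((b g : L) : L ⧸ H) := fun g => rfl
  have hβ2 : ∀ q, β (β q) = q := by
    intro q
    obtain ⟨g, rfl⟩ := QuotientGroup.mk_surjective q
    rw [hβ, hβ, hb2]
  -- the sets
  let X1 : Finset (L ⧸ H) := Finset.univ.filter (fun q => f • q = q ∧ F q = 1)
  let X2 : Finset (L ⧸ H) := Finset.univ.filter (fun q => f • q = q ∧ F q ≠ 1)
  have hX1 : Even X1.card := by
    have hstab : ∀ q ∈ X1, β q ∈ X1 := by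
      intro q hq
      simp only [X1, Finset.mem_filter, Finset.mem_univ, true_and] at hq ⊢
      obtain ⟨g, rfl⟩ := QuotientGroup.mk_surjective q
      have hg := (hfix g).1 hq.1
      have hbg : (b g)⁻¹ * f * b g ∈ H := by
        have := hbH _ hg
        rwa [map_mul, map_mul, map_inv, hbf] at this
      rw [hβ]
      refine ⟨(hfix _).2 hbg, ?_⟩
      rw [hF _ _ rfl hbg]
      have h1 : ψ ⟨_, hg⟩ = 1 := by rw [← hF _ _ rfl hg]; exact hq.2
      have h2 := hψ _ hg h1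
      have e : (⟨b (g⁻¹ * f * g), hbH _ hg⟩ : H) = ⟨(b g)⁻¹ * f * b g, hbg⟩ :=
        Subtype.ext (by simp only [map_mul, map_inv, hbf])
      rw [← e]; exact h2
    have h1 := card_mod_two (α := {q // q ∈ X1}) (fun q => ⟨β q.1, hstab q.1 q.2⟩)
      (fun q => Subtype.ext (hβ2 q.1))
    have h2 : Fintype.card {x : {q // q ∈ X1} // (⟨β x.1, hstab x.1 x.2⟩ : {q // q ∈ X1}) = x} = 0 := by
      rw [Fintype.card_eq_zero_iff]
      refine ⟨fun ⟨⟨q, hq⟩, h⟩ => ?_⟩
      have h3 : β q = q := congrArg Subtype.val h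
      simp only [X1, Finset.mem_filter, Finset.mem_univ, true_and] at hq
      obtain ⟨g, rfl⟩ := QuotientGroup.mk_surjective q
      have hg := (hfix g).1 hq.1
      rw [hβ, eq_comm, QuotientGroup.eq] at h3
      exact hno g h3 hg (by rw [← hF _ _ rfl hg]; exact hq.2)
    rw [h2, Fintype.card_coe] at h1
    exact Nat.even_iff.2 h1
  have hsum : X1.card + X2.card = (Finset.univ.filter (fun q : L ⧸ H => f • q = q)).card := by
    rw [← Finset.card_union_of_disjoint]
    · congr 1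
      ext q
      simp only [X1, X2, Finset.mem_union, Finset.mem_filter, Finset.mem_univ, true_and]
      by_cases h : F q = 1 <;> simp [h]
    · rw [Finset.disjoint_left]
      intro q h1 h2
      simp only [X1, X2, Finset.mem_filter, Finset.mem_univ, true_and] at h1 h2
      exact h2.2 h1.2
  have hfixodd : Odd (Finset.univ.filter (fun q : L ⧸ H => f • q = q)).card := by
    have h1 := card_mod_two (α := L ⧸ H) (fun q => f • q) (fun q => by
      rw [← mul_smul, hf, one_smul])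
    have h2 : Fintype.card {x : L ⧸ H // f • x = x} = (Finset.univ.filter (fun q : L ⧸ H => f • q = q)).card :=
      Fintype.card_subtype _
    rw [h2] at h1
    have h3 : Fintype.card (L ⧸ H) = H.index := by
      rw [Subgroup.index, Nat.card_eq_fintype_card]
    rw [h3, Nat.odd_iff.1 hodd] at h1
    exact Nat.odd_iff.2 h1.symm
  have hX2 : Odd X2.card := by
    rcases Nat.even_or_odd X2.card with h | h
    · exfalso
      have := hX1.add h
      rw [hsum] at this
      exact (Nat.not_even_iff_odd.2 hfixodd) this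
    · exact h
  -- the value
  have hFω : ∀ q ∈ X2, F q = ω := by
    intro q hq
    simp only [X2, Finset.mem_filter, Finset.mem_univ, true_and] at hq
    obtain ⟨g, rfl⟩ := QuotientGroup.mk_surjective q
    have hg := (hfix g).1 hq.1
    have h1 := hF _ _ rfl hg
    rcases hval g hg with h2 | h2
    · exact absurd (h1.trans h2) hq.2
    · exact h1.trans h2
  have hω2 : ω ^ 2 = 1 := by
    obtain ⟨q, hq⟩ : X2.Nonempty := by
      rw [← Finset.card_pos]
      exact hX2.pos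
    have h1 := hFω q hq
    simp only [X2, Finset.mem_filter, Finset.mem_univ, true_and] at hq
    obtain ⟨g, rfl⟩ := QuotientGroup.mk_surjective q
    have hg := (hfix g).1 hq.1
    rw [← h1, hF _ _ rfl hg, ← map_pow]
    have : (⟨g⁻¹ * f * g, hg⟩ : H) ^ 2 = 1 := by
      apply Subtype.ext
      show (g⁻¹ * f * g) ^ 2 = 1
      calc (g⁻¹ * f * g) ^ 2 = g⁻¹ * (f * f) * g := by rw [pow_two]; group
        _ = 1 := by rw [hf]; group
    rw [this, map_one]
  have hfin : MonoidHom.transfer ψ f = ω ^ X2.card := by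
    rw [hprod, ← Finset.prod_filter_mul_prod_filter_not _ (fun q => F q ≠ 1)]
    rw [Finset.prod_eq_one (s := Finset.filter (fun x => ¬ F x ≠ 1) _) (by
      intro q hq
      simp only [Finset.mem_filter, not_not] at hq
      exact hq.2), mul_one, Finset.filter_filter]
    have : (Finset.univ.filter (fun q : L ⧸ H => f • q = q ∧ F q ≠ 1)) = X2 := rfl
    rw [this, Finset.prod_congr rfl hFω, Finset.prod_const]
  rw [hfin]
  obtain ⟨k, hk⟩ := hX2
  rw [hk, pow_succ, pow_mul, hω2, one_pow, one_mul]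
  exact hω

/-- the Sylow 2-subgroup of a normal subgroup -/
theorem not_dvd_relIndex {G : Type*} [Group G] [Finite G] (P : Sylow 2 G) (L : Subgroup G) [L.Normal] :
    ¬ 2 ∣ (P : Subgroup G).relIndex L := by
  have : Fact (Nat.Prime 2) := ⟨Nat.prime_two⟩
  have h1 : (P : Subgroup G).relIndex L = (P : Subgroup G).relIndex ((P : Subgroup G) ⊔ L) := by
    have e1 := relIndex_mul_relIndex ⊥ ((P : Subgroup G) ⊓ L) L bot_le inf_le_right
    have e2 := relIndex_mul_relIndex ⊥ ((P : Subgroup G) ⊓ L) (P : Subgroup G) bot_le inf_le_left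
    have e3 := relIndex_mul_relIndex ⊥ L ((P : Subgroup G) ⊔ L) bot_le le_sup_right
    have e4 := relIndex_mul_relIndex ⊥ (P : Subgroup G) ((P : Subgroup G) ⊔ L) bot_le le_sup_left
    rw [inf_relIndex_right, relIndex_bot_left, relIndex_bot_left] at e1
    rw [inf_relIndex_left, relIndex_bot_left, relIndex_bot_left] at e2
    rw [relIndex_sup_right, relIndex_bot_left, relIndex_bot_left] at e3
    rw [relIndex_bot_left, relIndex_bot_left, ← e3, ← e1, ← e2] at e4
    have ha : 0 < Nat.card ↥((P : Subgroup G) ⊓ L) := Nat.card_pos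
    have he : 0 < L.relIndex (P : Subgroup G) := Nat.pos_of_ne_zero (by
      intro h
      rw [h, mul_zero] at e2
      have : 0 < Nat.card (P : Subgroup G) := Nat.card_pos
      omega)
    have h5 : (Nat.card ↥((P : Subgroup G) ⊓ L) * L.relIndex (P : Subgroup G)) * (P : Subgroup G).relIndex L =
        (Nat.card ↥((P : Subgroup G) ⊓ L) * L.relIndex (P : Subgroup G)) *
          (P : Subgroup G).relIndex ((P : Subgroup G) ⊔ L) := by
      rw [e4]; ring
    exact Nat.eq_of_mul_eq_mul_left (Nat.mul_pos ha he) h5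
  rw [h1]
  exact fun h => P.not_dvd_index (h.trans (relIndex_dvd_index_of_le le_sup_left))

/-- **(K3)** -/
theorem no_outer {G A : Type*} [Group G] [Finite G] [CommGroup A] {P : Sylow 2 G} {T L : Subgroup G} [hLn : L.Normal]
    {t f : G} (ht2 : t * t = 1) (htP : t ∈ (P : Subgroup G)) (htT : ∀ x ∈ T, t * x * t⁻¹ ∈ T)
    (hstar : ∀ g : G, g * t * g⁻¹ ∈ (P : Subgroup G) → ∃ x ∈ T, g * t * g⁻¹ = x * t * x⁻¹)
    (hL : commutator L = ⊤)
    (ψ : ↥((P : Subgroup G) ⊓ L) →* A) (hker : ∀ z (hz : z ∈ (P : Subgroup G) ⊓ L), ψ ⟨z, hz⟩ = 1 ↔ z ∈ T)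
    (hf2 : f * f = 1) (hft : f * t = t * f) (hfPL : f ∈ (P : Subgroup G) ⊓ L) (hfT : f ∉ T)
    (hval : ∀ z (hz : z ∈ (P : Subgroup G) ⊓ L), z * z = 1 → ψ ⟨z, hz⟩ = 1 ∨ ψ ⟨z, hz⟩ = ψ ⟨f, hfPL⟩) :
    ∃ y : G, y * t = t * y ∧ y * f * y⁻¹ ∈ T := by
  have : Fact (Nat.Prime 2) := ⟨Nat.prime_two⟩
  by_contra hcon
  push Not at hcon
  have hti : t⁻¹ = t := inv_eq_of_mul_eq_one_right ht2
  -- the Sylow subgroup of `L`
  let H : Subgroup L := (P : Subgroup G).subgroupOf L
  have hodd : Odd H.index := by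
    rw [← Nat.not_even_iff_odd, even_iff_two_dvd]
    intro h2
    have h3 : ¬ 2 ∣ ((P : Subgroup G) ⊓ L).relIndex L := by
      rw [inf_relIndex_right]
      exact not_dvd_relIndex P L
    rw [inf_relIndex_right] at h3
    exact h3 h2
  have hHmem : ∀ x : L, x ∈ H ↔ (x : G) ∈ (P : Subgroup G) ⊓ L := by
    intro x
    rw [mem_subgroupOf, mem_inf]
    exact ⟨fun h => ⟨h, x.2⟩, fun h => h.1⟩
  let ι : H →* ↥((P : Subgroup G) ⊓ L) :=
    { toFun := fun x => ⟨((x : L) : G), (hHmem x).1 x.2⟩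
      map_one' := rfl
      map_mul' := fun _ _ => rfl }
  let b : L ≃* L := MulAut.conjNormal t
  have hb : ∀ x : L, ((b x : L) : G) = t * x * t⁻¹ := fun x => MulAut.conjNormal_apply t x
  have hfL : f ∈ L := hfPL.2
  have hbH : ∀ x ∈ H, b x ∈ H := by
    intro x hx
    rw [hHmem, hb] 
    have h1 := (hHmem x).1 hx
    have h3 := mem_inf.1 h1
    exact mem_inf.2 ⟨(P : Subgroup G).mul_mem ((P : Subgroup G).mul_mem htP h3.1) ((P : Subgroup G).inv_mem htP),
      hLn.conj_mem _ h3.2 t⟩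
  have hω : ψ ⟨f, hfPL⟩ ≠ 1 := fun h => hfT ((hker _ _).1 h)
  have key := parity H hodd (ψ.comp ι) hω (f := ⟨f, hfL⟩) (Subtype.ext hf2)
    (by
      intro g hg
      exact hval _ ((hHmem _).1 hg) (by
        show ((g : G)⁻¹ * f * g) * ((g : G)⁻¹ * f * g) = 1
        calc ((g : G)⁻¹ * f * g) * ((g : G)⁻¹ * f * g) = (g : G)⁻¹ * (f * f) * g := by group
          _ = 1 := by rw [hf2]; group))
    b
    (by
      intro x
      apply Subtype.ext
      rw [hb, hb]
      calc t * (t * (x : G) * t⁻¹) * t⁻¹ = (t * t) * x * (t * t)⁻¹ := by group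
        _ = x := by rw [ht2]; group)
    (by
      apply Subtype.ext
      rw [hb]
      show t * f * t⁻¹ = f
      rw [← hft]; group)
    hbH
    (by
      intro x hx h1
      have h2 : (x : G) ∈ T := (hker _ _).1 h1
      refine (hker _ _).2 ?_
      rw [hb]
      exact htT _ h2)
    (by
      intro g hg hgf h1
      have h2 : (g : G)⁻¹ * f * g ∈ T := (hker _ _).1 h1
      have h3 : (g : G)⁻¹ * (t * g * t⁻¹) ∈ (P : Subgroup G) := by
        have := ((hHmem _).1 hg).1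
        rw [Subgroup.coe_mul, Subgroup.coe_inv, hb] at this
        exact this
      have h4 : (g : G)⁻¹ * t * (g : G)⁻¹⁻¹ ∈ (P : Subgroup G) := by
        have := mul_mem h3 htP
        have e : (g : G)⁻¹ * (t * g * t⁻¹) * t = (g : G)⁻¹ * t * (g : G)⁻¹⁻¹ := by group
        rwa [e] at this
      obtain ⟨x, hx, hxg⟩ := hstar _ h4
      refine hcon (x⁻¹ * (g : G)⁻¹) ?_ ?_
      · have h5 : (x⁻¹ * (g : G)⁻¹) * t * (x⁻¹ * (g : G)⁻¹)⁻¹ = t := by
          calc (x⁻¹ * (g : G)⁻¹) * t * (x⁻¹ * (g : G)⁻¹)⁻¹ = x⁻¹ * ((g : G)⁻¹ * t * (g : G)⁻¹⁻¹) * x := by group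
            _ = t := by rw [hxg]; group
        calc (x⁻¹ * (g : G)⁻¹) * t = ((x⁻¹ * (g : G)⁻¹) * t * (x⁻¹ * (g : G)⁻¹)⁻¹) * (x⁻¹ * (g : G)⁻¹) := by group
          _ = t * (x⁻¹ * (g : G)⁻¹) := by rw [h5]
      · have e : (x⁻¹ * (g : G)⁻¹) * f * (x⁻¹ * (g : G)⁻¹)⁻¹ = x⁻¹ * ((g : G)⁻¹ * f * g) * x := by group
        rw [e]
        exact mul_mem (mul_mem (inv_mem hx) h2) hx)
  exact key (hom_eq_one hL _ _)

end Cfsg.Agent.StdEven.OuterKill
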