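import Cfsg.Agent.StdEven.Perf
import Cfsg.Agent.StdEven.Avg
import Cfsg.Agent.S0215

/-!
# S1778, common step: `T` is not a Sylow 2-subgroup of `G`, `|R| = 2`, and `t ~ t v` in `N(T)`

`C : StdL2.Setup.Conf L A t`, `T` a Sylow 2-subgroup of `N(A)` as in `Loc.IsT`.
-/

set_option autoImplicit false
set_option linter.unusedSectionVars false

namespace Cfsg.Agent.StdEven.StepFour

open Cfsg Subgroup Cfsg.Agent.SignalizersComponents Cfsg.Agent.StdEven.Syl Cfsg.Agent.StdEven.Loc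
open Cfsg.Agent.StdEven.Perf Cfsg.Agent.StdEven.Avg Cfsg.Agent.StdL2.Setup Cfsg.Agent.Schreier.Basic

variable {G : Type*} [Group G]

/-- Data of a weakly closed subgroup `J` of `T` with `Ω₁(Z(J)) = ⟨t⟩ × W`, `W ≤ A`. -/
structure Data (A : Subgroup G) (t : G) (T J W : Subgroup G) : Prop where
  isT : IsT A t T
  J_le : J ≤ T
  t_J : t ∈ J
  W_J : W ≤ J
  W_A : W ≤ A
  W_two : ∀ w ∈ W, w * w = 1
  W_cent : ∀ w ∈ W, ∀ j ∈ J, w * j = j * w
  omega : ∀ x ∈ J, x * x = 1 → (∀ j ∈ J, x * j = j * x) → x ∈ W ∨ t * x ∈ W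
  /-- `J` is weakly closed in `T` with respect to `G`. -/
  weak : ∀ g : G, (∀ j ∈ J, g * j * g⁻¹ ∈ T) → ∀ j ∈ J, g * j * g⁻¹ ∈ J
  /-- all involutions of `T ⊓ A` are conjugate in `A` into `W`. -/
  into : ∀ u ∈ T, u ∈ A → u * u = 1 → ∃ a ∈ A, a * u * a⁻¹ ∈ W
  /-- `t` is not conjugate in `N(J)` to an element of `W` (see `Avg.conj_not_mem`). -/
  excl : ∀ g ∈ normalizer (J : Set G), g * t * g⁻¹ ∉ W
  /-- `C_W(N_A(J)) = 1`. -/
  fix : ∀ w ∈ W, (∀ a ∈ A, a ∈ normalizer (J : Set G) → a * w = w * a) → w = 1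

/-- Data of the outer involutions fused to `t` (for Lemma F). -/
def Outer (A : Subgroup G) (t : G) (T : Subgroup G) : Prop :=
  ∀ f ∈ T, f * f = 1 → (¬ ∃ a ∈ A, a⁻¹ * f ∈ centralizer (A : Set G)) → (∃ g : G, g * t * g⁻¹ = f) →
    ∃ B : Subgroup G, ⁅B, B⁆ = B ∧ (∀ x ∈ B, x * f = f * x) ∧
      B ≤ closure {x | x ∈ B ∧ ∃ k : ℕ, x ^ 2 ^ k = 1} ∧
      ∃ w ∈ B, w * w = 1 ∧ w ≠ 1 ∧ ∃ c : G, c * f * c⁻¹ = f * w

variable [Finite G] {L A : Subgroup G} {t : G} {T J W : Subgroup G}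

/-- **Glauberman**: `t` is conjugate to another element of `T` when `T` is Sylow in `G`. -/
theorem exists_conj_ne (C : Conf L A t) {u : G} (huA : u ∈ A) (hu1 : u ≠ 1) (huu : u * u = 1)
    (htT : t ∈ T) (hT : IsSyl T ⊤) : ∃ g : G, g * t * g⁻¹ ∈ T ∧ g * t * g⁻¹ ≠ t := by
  by_contra hcon
  push Not at hcon
  obtain ⟨P, hP⟩ := hT.exists_sylow
  have hiso : ∀ g : G, g * t * g⁻¹ ∈ P → g * t * g⁻¹ = t := by
    intro g hg
    apply hcon g
    rw [← hP]; exact hg
  have htP : t ∈ P := by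
    show t ∈ (P : Subgroup G)
    rw [hP]; exact htT
  obtain ⟨N, hN, hNo, hNc⟩ := Cfsg.Agent.S0215.result P t C.ht htP hiso
  have hNL : N ⊓ L = ⊥ := by
    have := C.simple
    have := C.normal
    have h1 : (N.subgroupOf L).Normal := inferInstance
    rcases h1.eq_bot_or_eq_top with h | h
    · rw [subgroupOf_eq_bot] at h
      exact h.eq_bot
    · exfalso
      have h2 : L ≤ N := subgroupOf_eq_top.mp h
      have h3 : orderOf u = 2 := orderOf_eq_prime (by rw [pow_two, huu]) hu1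
      have h4 : orderOf u ∣ Nat.card N := Subgroup.orderOf_dvd_natCard N (h2 (C.le huA))
      rw [h3] at h4
      exact (Nat.not_even_iff_odd.mpr hNo) (even_iff_two_dvd.mpr h4)
  have hNbot : N = ⊥ := by
    rw [← le_bot_iff, ← C.cent]
    intro x hx
    rw [mem_centralizer_iff]
    intro y hy
    have h3 : x * y * x⁻¹ * y⁻¹ ∈ N ⊓ L := by
      rw [mem_inf]
      refine ⟨?_, ?_⟩
      · have : x * (y * x⁻¹ * y⁻¹) ∈ N := mul_mem hx (hN.conj_mem _ (inv_mem hx) y)
        simpa only [mul_assoc] using this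
      · exact mul_mem (C.normal.conj_mem y hy x) (inv_mem hy)
    rw [hNL, mem_bot, mul_inv_eq_one, mul_inv_eq_iff_eq_mul] at h3
    exact h3.symm
  have hcent : t ∈ centralizer (L : Set G) := by
    rw [mem_centralizer_iff]
    intro x _
    have := hNc x
    rw [hNbot, mem_bot, mul_inv_eq_one, mul_inv_eq_iff_eq_mul] at this
    exact this.symm
  rw [C.cent, mem_bot] at hcent
  exact t_ne C.ht hcent

/-- Some involution `u` of `T ⊓ A` satisfies `t ~ u` or `t ~ t u`. -/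
theorem exists_inner (C : Conf L A t) (hZ : Odd (Nat.card (center ↥A))) (hS : Sch ↥A) (hT : IsT A t T)
    (hO : Outer A t T) {u : G} (huA : u ∈ A) (hu1 : u ≠ 1) (huu : u * u = 1) (hsyl : IsSyl T ⊤) :
    ∃ v ∈ T, v ∈ A ∧ v * v = 1 ∧ v ≠ 1 ∧ ((∃ g : G, g * t * g⁻¹ = v) ∨ ∃ g : G, g * t * g⁻¹ = t * v) := by
  obtain ⟨g, hgT, hgt⟩ := exists_conj_ne C huA hu1 huu hT.mem hsyl
  set f := g * t * g⁻¹ with hf
  have hff : f * f = 1 := by
    have : f * f = g * (t * t) * g⁻¹ := by rw [hf]; group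
    rw [this, tt C.ht, mul_one, mul_inv_cancel]
  have hf1 : f ≠ 1 := by
    intro h
    apply t_ne C.ht
    have : t = g⁻¹ * f * g := by rw [hf]; group
    rw [this, h]; group
  by_cases hin : ∃ a ∈ A, a⁻¹ * f ∈ centralizer (A : Set G)
  · obtain ⟨a, ha, haf⟩ := hin
    obtain ⟨v, hvT, hvA, r, hrT, hrK, hfe⟩ := hT.exists_of_inner hgT ha haf
    have hrv : r * v = v * r := comm_of_centralizer hrK hvA
    have h1 : (v * v) * (r * r) = 1 := by
      rw [← hff, hfe]
      calc v * v * (r * r) = v * (v * r) * r := by group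
        _ = v * (r * v) * r := by rw [hrv]
        _ = v * r * (v * r) := by group
    have h2 : v * v = 1 := by
      apply hT.eq_one_of_mem hZ (mul_mem hvT hvT) (mul_mem hvA hvA)
      rw [eq_inv_of_mul_eq_one_left h1]
      exact inv_mem (mul_mem hrK hrK)
    rw [h2, one_mul] at h1
    rcases hT.uniq r hrT hrK h1 with h | h
    · rw [h, mul_one] at hfe
      refine ⟨v, hvT, hvA, h2, ?_, Or.inl ⟨g, hfe⟩⟩
      rw [← hfe]; exact hf1
    · rw [h] at hfe hrv
      refine ⟨v, hvT, hvA, h2, ?_, Or.inr ⟨g, by rw [hrv]; exact hfe⟩⟩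
      intro hv
      rw [hv, one_mul] at hfe
      exact hgt hfe
  · obtain ⟨B, hB, hBf, hB2, w, hw, hww, hw1, c, hc⟩ := hO f hgT hff hin ⟨g, hf.symm⟩
    obtain ⟨a, ha, haa, ha1, y, hy⟩ := exists_conj_mul C.std C.ht C.htA C.cyc hS hf.symm hB hBf hB2 hw hww hw1 hc
    -- conjugate `a` into `T`
    have h1 : IsPGroup 2 (zpowers a) := isPGroup_zpowers (orderOf_eq_prime (by rw [pow_two, haa]) ha1)
    obtain ⟨n, hn, hna⟩ := hT.sylA.exists_conj h1 (by rw [zpowers_le]; exact ha)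
    have h2 := hna a (mem_zpowers a)
    refine ⟨n * a * n⁻¹, h2.1, h2.2, ?_, ?_, Or.inr ⟨n * y, ?_⟩⟩
    · calc n * a * n⁻¹ * (n * a * n⁻¹) = n * (a * a) * n⁻¹ := by group
        _ = 1 := by rw [haa]; group
    · intro h
      apply ha1
      have : a = n⁻¹ * (n * a * n⁻¹) * n := by group
      rw [this, h]; group
    · have h3 : t * n = n * t := comm_of_centralizer C.htA hn
      calc n * y * t * (n * y)⁻¹ = n * (y * t * y⁻¹) * n⁻¹ := by group
        _ = n * (t * a) * n⁻¹ := by rw [hy]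
        _ = (n * t) * a * n⁻¹ := by group
        _ = (t * n) * a * n⁻¹ := by rw [h3]
        _ = t * (n * a * n⁻¹) := by group

namespace Data

variable (D : Data A t T J W)
include D

theorem mem_normalizer_J {g : G} (hg : ∀ j ∈ J, g * j * g⁻¹ ∈ T) : g ∈ normalizer (J : Set G) :=
  mem_normalizer_of_conj_le (D.weak g hg)

theorem T_le : T ≤ normalizer (J : Set G) := fun x hx =>
  D.mem_normalizer_J fun j hj => mul_mem (mul_mem hx (D.J_le hj)) (inv_mem hx)

theorem normalizer_T_le : normalizer (T : Set G) ≤ normalizer (J : Set G) := fun _ hx =>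
  D.mem_normalizer_J fun _ hj => conj_mem_of_mem_normalizer hx (D.J_le hj)

/-- The conjugates of `t` under `N(J)` lie in `t W`. -/
theorem orb (ht : orderOf t = 2) {n : G} (hn : n ∈ normalizer (J : Set G)) : t * (n * t * n⁻¹) ∈ W := by
  have h1 : n * t * n⁻¹ ∈ J := conj_mem_of_mem_normalizer hn D.t_J
  have h2 : n * t * n⁻¹ * (n * t * n⁻¹) = 1 := by
    calc n * t * n⁻¹ * (n * t * n⁻¹) = n * (t * t) * n⁻¹ := by group
      _ = 1 := by rw [tt ht]; group
  have h3 : ∀ j ∈ J, n * t * n⁻¹ * j = j * (n * t * n⁻¹) := by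
    intro j hj
    have h4 : n⁻¹ * j * n ∈ J := conj_inv_mem_of_mem_normalizer hn hj
    have h5 := D.isT.cent _ (D.J_le h4)
    calc n * t * n⁻¹ * j = n * (t * (n⁻¹ * j * n)) * n⁻¹ := by group
      _ = n * (n⁻¹ * j * n * t) * n⁻¹ := by rw [h5]
      _ = j * (n * t * n⁻¹) := by group
  exact (D.omega _ h1 h2 h3).resolve_left (D.excl n hn)

/-- If some Sylow 2-subgroup of `N(J)` centralises `t`, then `N(J)` does. -/
theorem comm_of_syl (C : Conf L A t) {S : Subgroup G} (hS : IsSyl S (normalizer (J : Set G)))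
    (hSt : ∀ x ∈ S, x * t = t * x) {n : G} (hn : n ∈ normalizer (J : Set G)) : n * t = t * n := by
  let V : Subgroup G := J ⊓ centralizer (J : Set G)
  have hV : ∀ x ∈ V, ∀ y ∈ V, x * y = y * x := fun x hx y hy => comm_of_centralizer hx.2 hy.1
  have hNV : ∀ n ∈ normalizer (J : Set G), ∀ v ∈ V, n * v * n⁻¹ ∈ V := fun n hn v hv =>
    mem_inf.mpr ⟨conj_mem_of_mem_normalizer hn hv.1,
      conj_mem_of_mem_normalizer (normalizer_le_normalizer_centralizer J hn) hv.2⟩
  have htV : t ∈ V := by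
    refine mem_inf.mpr ⟨D.t_J, ?_⟩
    rw [mem_centralizer_iff]
    exact fun j hj => D.isT.cent j (D.J_le hj)
  obtain ⟨w, hw, hfix⟩ := exists_fixed hV hNV hS.odd_relIndex htV hSt (tt C.ht) (fun n hn => D.orb C.ht hn)
  have hw1 : w = 1 := by
    apply D.fix w hw
    intro a ha haJ
    have h1 := hfix a haJ
    have h2 : t * a = a * t := comm_of_centralizer C.htA ha
    have h3 : t * (a * w) = t * (w * a) := by
      calc t * (a * w) = (t * a) * w := by group
        _ = a * (t * w) := by rw [h2]; group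
        _ = t * w * a := h1
        _ = t * (w * a) := by group
    exact mul_left_cancel h3
  have := hfix n hn
  rwa [hw1, mul_one] at this

/-- `T` is not a Sylow 2-subgroup of `G`. -/
theorem not_syl (C : Conf L A t) (hZ : Odd (Nat.card (center ↥A))) (hS : Sch ↥A) (hO : Outer A t T)
    {u : G} (huA : u ∈ A) (hu1 : u ≠ 1) (huu : u * u = 1) : ¬ IsSyl T ⊤ := by
  intro hsyl
  obtain ⟨v, hvT, hvA, hvv, hv1, hconj⟩ := exists_inner C hZ hS D.isT hO huA hu1 huu hsyl
  obtain ⟨b, hb, hbW⟩ := D.into v hvT hvA hvv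
  have hbt : t * b = b * t := comm_of_centralizer C.htA hb
  -- an element `s ≠ t` of `W ∪ t W` conjugate to `t`
  obtain ⟨s, h, hs, hsW, hsne⟩ : ∃ s h : G, h * t * h⁻¹ = s ∧ (s ∈ W ∨ t * s ∈ W) ∧ s ≠ t := by
    rcases hconj with ⟨g, hg⟩ | ⟨g, hg⟩
    · refine ⟨b * v * b⁻¹, b * g, ?_, Or.inl hbW, ?_⟩
      · rw [← hg]; group
      · intro h
        rw [h] at hbW
        apply D.excl 1 (one_mem _)
        simpa using hbW
    · refine ⟨t * (b * v * b⁻¹), b * g, ?_, Or.inr ?_, ?_⟩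
      · calc b * g * t * (b * g)⁻¹ = b * (g * t * g⁻¹) * b⁻¹ := by group
          _ = (b * t) * v * b⁻¹ := by rw [hg]; group
          _ = t * (b * v * b⁻¹) := by rw [← hbt]; group
      · rw [← mul_assoc, tt C.ht, one_mul]; exact hbW
      · intro h
        apply hv1
        rw [mul_eq_left] at h
        have : v = b⁻¹ * (b * v * b⁻¹) * b := by group
        rw [this, h]; group
  -- `J ≤ C(s)`
  have hsJ : ∀ j ∈ J, j * s = s * j := by
    intro j hj
    rcases hsW with h1 | h1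
    · exact (D.W_cent _ h1 j hj).symm
    · have h2 := D.W_cent _ h1 j hj
      have h3 : s = t * (t * s) := by rw [← mul_assoc, tt C.ht, one_mul]
      have h4 := D.isT.cent j (D.J_le hj)
      calc j * s = (j * t) * (t * s) := by rw [mul_assoc, ← h3]
        _ = t * (j * (t * s)) := by rw [h4]; group
        _ = t * (t * s * j) := by rw [h2]
        _ = s * j := by rw [← mul_assoc, ← h3]
  -- `T` is Sylow in `C(t)`, its conjugate is Sylow in `C(s)`
  have hTc := D.isT.syl_cent C.std C.ht C.htA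
  have hJs : ∀ j ∈ J, h⁻¹ * j * h ∈ centralizer ({t} : Set G) := by
    intro j hj
    rw [mem_centralizer_singleton_iff]
    have h1 := hsJ j hj
    rw [← hs] at h1
    calc h⁻¹ * j * h * t = h⁻¹ * (j * (h * t * h⁻¹)) * h := by group
      _ = h⁻¹ * (h * t * h⁻¹ * j) * h := by rw [h1]
      _ = t * (h⁻¹ * j * h) := by group
  have hJp : IsPGroup 2 (J.map (MulAut.conj h⁻¹).toMonoidHom) := isPGroup_map (D.isT.syl.two.to_le D.J_le) h⁻¹
  obtain ⟨c, hc, hcT⟩ := hTc.exists_conj hJp (by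
    rintro _ ⟨j, hj, rfl⟩
    show h⁻¹ * j * h⁻¹⁻¹ ∈ _
    rw [inv_inv]
    exact hJs j hj)
  rw [mem_centralizer_singleton_iff] at hc
  have hn : c * h⁻¹ ∈ normalizer (J : Set G) := by
    apply D.mem_normalizer_J
    intro j hj
    have h1 := hcT _ (conj_mem_map h⁻¹ hj)
    have h2 : c * h⁻¹ * j * (c * h⁻¹)⁻¹ = c * (h⁻¹ * j * h⁻¹⁻¹) * c⁻¹ := by group
    rw [h2]; exact h1
  -- `N(J)` centralises `t`
  have h1 := D.comm_of_syl C (hsyl.mono D.T_le le_top) D.isT.cent (inv_mem hn)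
  apply hsne
  rw [← hs]
  have h2 : (c * h⁻¹)⁻¹ * t * (c * h⁻¹) = h * (c⁻¹ * (t * c)) * h⁻¹ := by group
  have h3 : (c * h⁻¹)⁻¹ * t * (c * h⁻¹) = t := by rw [h1]; group
  rw [← hc, inv_mul_cancel_left] at h2
  rw [← h2, h3]

/-- Some element of `N(T)` maps `t` to `t v`, `v ∈ W` central in `T`. -/
theorem exists_normalizer (C : Conf L A t) (hsyl : ¬ IsSyl T ⊤) :
    ∃ g ∈ normalizer (T : Set G), (∃ k : ℕ, g ^ 2 ^ k = 1) ∧ ∃ v ∈ W, v ≠ 1 ∧ (∀ x ∈ T, x * v = v * x) ∧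
      g * t * g⁻¹ = t * v := by
  obtain ⟨X, hX, hTX, hXN⟩ := D.isT.syl.exists_normalizer hsyl
  have h1 : ∃ g ∈ X, g * t ≠ t * g := by
    by_contra hcon
    push Not at hcon
    have h2 := D.isT.syl.max X hX (fun x hx => mem_normalizer_of_comm C.std C.ht C.htA (hcon x hx)) hTX.le
    rw [h2] at hTX
    exact lt_irrefl _ hTX
  obtain ⟨g, hg, hgt⟩ := h1
  have hgN := hXN hg
  obtain ⟨k, hk⟩ := hX ⟨g, hg⟩
  have h2 := D.orb C.ht (D.normalizer_T_le hgN)
  refine ⟨g, hgN, ⟨k, congrArg Subtype.val hk⟩, _, h2, ?_, ?_, ?_⟩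
  · intro h
    apply hgt
    have h3 : g * t * g⁻¹ = t := by
      have : g * t * g⁻¹ = t * (t * (g * t * g⁻¹)) := by rw [← mul_assoc, tt C.ht, one_mul]
      rw [this, h, mul_one]
    rwa [mul_inv_eq_iff_eq_mul] at h3
  · intro x hx
    have h3 : g⁻¹ * x * g ∈ T := conj_inv_mem_of_mem_normalizer hgN hx
    have h4 := D.isT.cent _ h3
    have h5 := D.isT.cent _ hx
    have h6 : x * (g * t * g⁻¹) = g * t * g⁻¹ * x := by
      calc x * (g * t * g⁻¹) = g * (g⁻¹ * x * g * t) * g⁻¹ := by group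
        _ = g * (t * (g⁻¹ * x * g)) * g⁻¹ := by rw [h4]
        _ = g * t * g⁻¹ * x := by group
    calc x * (t * (g * t * g⁻¹)) = (x * t) * (g * t * g⁻¹) := by group
      _ = t * (x * (g * t * g⁻¹)) := by rw [h5]; group
      _ = t * (g * t * g⁻¹) * x := by rw [h6]; group
  · rw [← mul_assoc, tt C.ht, one_mul]

/-- `|R| = 2`.  `X` is a subgroup of `T` normalised by `N(T)`, the product of `T ⊓ C(A)` and a subgroup of exponent 2 of
`A` (e.g. `X = C_T(J)`). -/
theorem R_eq (C : Conf L A t) (hZ : Odd (Nat.card (center ↥A))) (hS : Sch ↥A) (hO : Outer A t T)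
    {u : G} (huA : u ∈ A) (hu1 : u ≠ 1) (huu : u * u = 1) {X : Subgroup G}
    (hX1 : ∀ r ∈ T, r ∈ centralizer (A : Set G) → r ∈ X)
    (hX2 : ∀ x ∈ X, ∃ v ∈ A, v * v = 1 ∧ ∃ r ∈ T, r ∈ centralizer (A : Set G) ∧ x = v * r)
    (hX3 : ∀ g ∈ normalizer (T : Set G), ∀ x ∈ X, g * x * g⁻¹ ∈ X)
    {r : G} (hr : r ∈ T) (hrK : r ∈ centralizer (A : Set G)) : r = 1 ∨ r = t := by
  by_contra hcon
  push Not at hcon
  -- an element with square `t`
  obtain ⟨s, hs, hsK, hst⟩ : ∃ s ∈ T, s ∈ centralizer (A : Set G) ∧ s * s = t := by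
    obtain ⟨k, hk⟩ := D.isT.syl.two ⟨r, hr⟩
    have hk : r ^ 2 ^ k = 1 := congrArg Subtype.val hk
    obtain ⟨k, hk, hko⟩ := (Nat.dvd_prime_pow Nat.prime_two).mp (orderOf_dvd_of_pow_eq_one hk)
    match k, hko with
    | 0, hko =>
      exfalso
      rw [pow_zero, orderOf_eq_one_iff] at hko
      exact hcon.1 hko
    | 1, hko =>
      exfalso
      rcases D.isT.uniq r hr hrK (by rw [← pow_two, ← pow_one 2, ← hko, pow_orderOf_eq_one]) with h | h
      · exact hcon.1 h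
      · exact hcon.2 h
    | k + 2, hko =>
      refine ⟨r ^ 2 ^ k, pow_mem hr _, pow_mem hrK _, ?_⟩
      have h1 : r ^ 2 ^ k * r ^ 2 ^ k = r ^ 2 ^ (k + 1) := by rw [← pow_add]; congr 1; ring
      rw [h1]
      rcases D.isT.uniq (r ^ 2 ^ (k + 1)) (pow_mem hr _) (pow_mem hrK _) (by
        rw [← pow_add]
        have : 2 ^ (k + 1) + 2 ^ (k + 1) = 2 ^ (k + 2) := by ring
        rw [this, ← hko, pow_orderOf_eq_one]) with h | h
      · exfalso
        have h2 := orderOf_dvd_of_pow_eq_one h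
        rw [hko] at h2
        have h3 := Nat.le_of_dvd (by positivity) h2
        have h4 : 2 ^ (k + 1) < 2 ^ (k + 2) := Nat.pow_lt_pow_right (by norm_num) (by omega)
        omega
      · exact h
  -- `N(T)` centralises `t`
  apply D.not_syl C hZ hS hO huA hu1 huu
  apply D.isT.syl.top_of_normalizer
  intro g hg
  apply mem_normalizer_of_comm C.std C.ht C.htA
  obtain ⟨v, hvA, hvv, r', hr', hr'K, hx⟩ := hX2 _ (hX3 g hg s (hX1 s hs hsK))
  have hrv : r' * v = v * r' := comm_of_centralizer hr'K hvA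
  have h1 : g * t * g⁻¹ = r' * r' := by
    calc g * t * g⁻¹ = (g * s * g⁻¹) * (g * s * g⁻¹) := by rw [← hst]; group
      _ = v * r' * (v * r') := by rw [hx]
      _ = v * (r' * v) * r' := by group
      _ = (v * v) * (r' * r') := by rw [hrv]; group
      _ = r' * r' := by rw [hvv, one_mul]
  have h2 : g * t * g⁻¹ * (g * t * g⁻¹) = 1 := by
    calc g * t * g⁻¹ * (g * t * g⁻¹) = g * (t * t) * g⁻¹ := by group
      _ = 1 := by rw [tt C.ht]; group
  rcases D.isT.uniq (g * t * g⁻¹) (by rw [h1]; exact mul_mem hr' hr') (by rw [h1]; exact mul_mem hr'K hr'K) h2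
    with h | h
  · exfalso
    apply t_ne C.ht
    have : t = g⁻¹ * (g * t * g⁻¹) * g := by group
    rw [this, h]; group
  · rwa [mul_inv_eq_iff_eq_mul] at h

end Data

end Cfsg.Agent.StdEven.StepFour
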