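import Cfsg.Prelude.Def_ClassificationK
import Cfsg.Prelude.Def_LieTypeChar
import Cfsg.Prelude.Def_LieTwisted
import Cfsg.Agent.StdL2.Assemble
import Cfsg.Agent.TitsThree.CharBase

/-!
# S1778: assembly from the reduced configuration `StdL2.Setup.Conf L A t`

`TypeHyp Q`: the disjunction of the hypotheses of S1778 on `Q = A / Z(A)`.  `of_core` deduces S1778 from the statement
for reduced configurations (`L` simple, normal, `C(L) = 1`, `G = L⟨t⟩`).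
-/

set_option autoImplicit false
set_option linter.unusedSectionVars false

namespace Cfsg.Agent.StdEven.Red

open Cfsg Subgroup Cfsg.Agent.SignalizersComponents Cfsg.Agent.StdL2.Setup Cfsg.Agent.StdL2.Assemble

universe u v w

/-- `PSL 3` over a field with `2 ^ a` elements, `a ≥ 2`. -/
def TypeL3 (Q : Type*) [Group Q] : Prop :=
  ∃ (F : Type) (_ : Field F) (_ : Fintype F) (a : ℕ), 2 ≤ a ∧ Fintype.card F = 2 ^ a ∧
    Nonempty (Q ≃* Matrix.ProjectiveSpecialLinearGroup (Fin 3) F)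

/-- `PSp 4` over a field with `2 ^ a` elements, `a ≥ 2`. -/
def TypeSp4 (Q : Type*) [Group Q] : Prop :=
  ∃ (F : Type) (_ : Field F) (_ : Fintype F) (a : ℕ), 2 ≤ a ∧ Fintype.card F = 2 ^ a ∧ Nonempty (Q ≃* Cfsg.PSp 2 F)

/-- `G₂` over a field with `2 ^ a` elements, `a ≥ 2`. -/
def TypeG2 (Q : Type*) [Group Q] : Prop :=
  ∃ (F : Type) (_ : Field F) (_ : Fintype F) (a : ℕ), 2 ≤ a ∧ Fintype.card F = 2 ^ a ∧
    Nonempty (Q ≃* ↥(Cfsg.Lie.chevG2.group F))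

/-- `PSU 4` with parameter `2 ^ a`, `a ≥ 2`. -/
def TypeU4 (Q : Type*) [Group Q] : Prop :=
  ∃ (F : Type) (_ : Field F) (_ : Fintype F) (a : ℕ), 2 ≤ a ∧ Fintype.card F = 4 ^ a ∧
    Nonempty (Q ≃* Cfsg.PSU 4 F (2 ^ a))

/-- `PSU 5` with parameter `2 ^ a`, `a ≥ 2`. -/
def TypeU5 (Q : Type*) [Group Q] : Prop :=
  ∃ (F : Type) (_ : Field F) (_ : Fintype F) (a : ℕ), 2 ≤ a ∧ Fintype.card F = 4 ^ a ∧
    Nonempty (Q ≃* Cfsg.PSU 5 F (2 ^ a))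

/-- `PSU 5` with parameter `2`. -/
def TypeU52 (Q : Type*) [Group Q] : Prop :=
  ∃ (F : Type) (_ : Field F) (_ : Fintype F), Fintype.card F = 4 ∧ Nonempty (Q ≃* Cfsg.PSU 5 F 2)

/-- `³D₄` in characteristic 2. -/
def Type3D4 (Q : Type*) [Group Q] : Prop :=
  ∃ (K : Type) (_ : Field K) (_ : Fintype K) (a : ℕ), 1 ≤ a ∧ Fintype.card K = 8 ^ a ∧
    Nonempty (Q ≃* ↥(Cfsg.Lie.twistedD4 K (2 ^ a)))

/-- The hypothesis on `A / Z(A)` in S1778. -/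
def TypeHyp (Q : Type*) [Group Q] : Prop :=
  TypeL3 Q ∨ TypeSp4 Q ∨ TypeG2 Q ∨ TypeU4 Q ∨ TypeU5 Q ∨ TypeU52 Q ∨ Type3D4 Q

theorem TypeHyp.congr {Q Q' : Type*} [Group Q] [Group Q'] (e : Q' ≃* Q) (h : TypeHyp Q) : TypeHyp Q' := by
  rcases h with h | h | h | h | h | h | h
  · obtain ⟨F, i1, i2, a, h1, h2, ⟨f⟩⟩ := h
    exact Or.inl ⟨F, i1, i2, a, h1, h2, ⟨e.trans f⟩⟩
  · obtain ⟨F, i1, i2, a, h1, h2, ⟨f⟩⟩ := h
    exact Or.inr (Or.inl ⟨F, i1, i2, a, h1, h2, ⟨e.trans f⟩⟩)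
  · obtain ⟨F, i1, i2, a, h1, h2, ⟨f⟩⟩ := h
    exact Or.inr (Or.inr (Or.inl ⟨F, i1, i2, a, h1, h2, ⟨e.trans f⟩⟩))
  · obtain ⟨F, i1, i2, a, h1, h2, ⟨f⟩⟩ := h
    exact Or.inr (Or.inr (Or.inr (Or.inl ⟨F, i1, i2, a, h1, h2, ⟨e.trans f⟩⟩)))
  · obtain ⟨F, i1, i2, a, h1, h2, ⟨f⟩⟩ := h
    exact Or.inr (Or.inr (Or.inr (Or.inr (Or.inl ⟨F, i1, i2, a, h1, h2, ⟨e.trans f⟩⟩))))
  · obtain ⟨F, i1, i2, h1, ⟨f⟩⟩ := h
    exact Or.inr (Or.inr (Or.inr (Or.inr (Or.inr (Or.inl ⟨F, i1, i2, h1, ⟨e.trans f⟩⟩)))))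
  · obtain ⟨F, i1, i2, a, h1, h2, ⟨f⟩⟩ := h
    exact Or.inr (Or.inr (Or.inr (Or.inr (Or.inr (Or.inr ⟨F, i1, i2, a, h1, h2, ⟨e.trans f⟩⟩)))))

/-- The disjunction of the statement. -/
theorem typeHyp_of {Q : Type*} [Group Q]
    (hAX : (∃ (F : Type) (_ : Field F) (_ : Fintype F) (a : ℕ), 2 ≤ a ∧ Fintype.card F = 2 ^ a ∧
        (Nonempty (Q ≃* Matrix.ProjectiveSpecialLinearGroup (Fin 3) F) ∨ Nonempty (Q ≃* Cfsg.PSp 2 F) ∨
          Nonempty (Q ≃* ↥(Cfsg.Lie.chevG2.group F)))) ∨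
      (∃ (F : Type) (_ : Field F) (_ : Fintype F) (a : ℕ), 2 ≤ a ∧ Fintype.card F = 4 ^ a ∧
        (Nonempty (Q ≃* Cfsg.PSU 4 F (2 ^ a)) ∨ Nonempty (Q ≃* Cfsg.PSU 5 F (2 ^ a)))) ∨
      (∃ (F : Type) (_ : Field F) (_ : Fintype F), Fintype.card F = 4 ∧ Nonempty (Q ≃* Cfsg.PSU 5 F 2)) ∨
      (∃ (K : Type) (_ : Field K) (_ : Fintype K) (a : ℕ), 1 ≤ a ∧ Fintype.card K = 8 ^ a ∧
        Nonempty (Q ≃* ↥(Cfsg.Lie.twistedD4 K (2 ^ a))))) : TypeHyp Q := by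
  rcases hAX with ⟨F, i1, i2, a, h1, h2, h | h | h⟩ | ⟨F, i1, i2, a, h1, h2, h | h⟩ | ⟨F, i1, i2, h1, h⟩ |
    ⟨F, i1, i2, a, h1, h2, h⟩
  · exact Or.inl ⟨F, i1, i2, a, h1, h2, h⟩
  · exact Or.inr (Or.inl ⟨F, i1, i2, a, h1, h2, h⟩)
  · exact Or.inr (Or.inr (Or.inl ⟨F, i1, i2, a, h1, h2, h⟩))
  · exact Or.inr (Or.inr (Or.inr (Or.inl ⟨F, i1, i2, a, h1, h2, h⟩)))
  · exact Or.inr (Or.inr (Or.inr (Or.inr (Or.inl ⟨F, i1, i2, a, h1, h2, h⟩))))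
  · exact Or.inr (Or.inr (Or.inr (Or.inr (Or.inr (Or.inl ⟨F, i1, i2, h1, h⟩)))))
  · exact Or.inr (Or.inr (Or.inr (Or.inr (Or.inr (Or.inr ⟨F, i1, i2, a, h1, h2, h⟩)))))

/-- What has to be proved for a reduced configuration. -/
def Concl {G : Type*} [Group G] (L : Subgroup G) (t : G) : Prop :=
  (Cfsg.IsLieTypeChar 2 ↥L ∨ Cfsg.Lie.IsoTits ↥L) ∧ t ∉ L

/-- The core statement for the groups `A / Z(A)` with the property `P`. -/
def Core (P : ∀ (Q : Type u) [Group Q], Prop) : Prop :=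
  ∀ (H : Type u) [Group H] [Finite H] (L A : Subgroup H) (t : H), Conf L A t → Odd (Nat.card (center ↥A)) →
    P (↥A ⧸ center ↥A) → Concl L t

theorem core_of_types (h1 : Core.{u} (fun Q _ => TypeL3 Q)) (h2 : Core.{u} (fun Q _ => TypeSp4 Q))
    (h3 : Core.{u} (fun Q _ => TypeG2 Q)) (h4 : Core.{u} (fun Q _ => TypeU4 Q)) (h5 : Core.{u} (fun Q _ => TypeU5 Q))
    (h6 : Core.{u} (fun Q _ => TypeU52 Q)) (h7 : Core.{u} (fun Q _ => Type3D4 Q)) :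
    Core.{u} (fun Q _ => TypeHyp Q) := by
  intro H _ _ L A t hC hZ h
  rcases h with h | h | h | h | h | h | h
  · exact h1 H L A t hC hZ h
  · exact h2 H L A t hC hZ h
  · exact h3 H L A t hC hZ h
  · exact h4 H L A t hC hZ h
  · exact h5 H L A t hC hZ h
  · exact h6 H L A t hC hZ h
  · exact h7 H L A t hC hZ h

/-- The isomorphism of the quotients by the centres. -/
theorem nonempty_quot {A B : Type*} [Group A] [Group B] (e : A ≃* B) :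
    Nonempty ((A ⧸ center A) ≃* (B ⧸ center B)) := by
  refine ⟨QuotientGroup.congr _ _ e ?_⟩
  ext x
  constructor
  · rintro ⟨y, hy, rfl⟩
    rw [mem_center_iff]
    intro g
    have h1 := mem_center_iff.mp hy (e.symm g)
    have h2 := congrArg e h1
    simpa using h2
  · intro hx
    refine ⟨e.symm x, ?_, by simp⟩
    rw [SetLike.mem_coe, mem_center_iff]
    intro g
    have h1 := mem_center_iff.mp hx (e g)
    have h2 := congrArg e.symm h1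
    simpa using h2

/-- **S1778 from the core statement.** -/
theorem of_core (core : Core.{u} (fun Q _ => TypeHyp Q))
    {G : Type u} [Group G] [Finite G] (hO : Cfsg.oddCore G = ⊥)
    (A : Subgroup G) (hA : Cfsg.IsStandardSubgroup A) (hnA : ¬ A.Normal) (hZ : Odd (Nat.card ↥(Subgroup.center ↥A)))
    (hR : ∀ R : Sylow 2 ↥(Subgroup.centralizer (A : Set G)), IsCyclic ↥(R : Subgroup ↥(Subgroup.centralizer (A : Set G))))
    (t : G) (ht : orderOf t = 2) (htA : t ∈ Subgroup.centralizer (A : Set G))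
    (hAX : TypeHyp (↥A ⧸ Subgroup.center ↥A)) :
    Nonempty (↥(Cfsg.layer G) ≃* ↥A × ↥A) ∨ ((Cfsg.IsLieTypeChar 2 ↥(Cfsg.layer G) ∨ Cfsg.Lie.IsoTits ↥(Cfsg.layer G)) ∧
      ¬ (∃ e : G, e ∈ Cfsg.layer G ∧ ∀ x ∈ Cfsg.layer G, t * x * t⁻¹ = e * x * e⁻¹)) := by
  rcases Cfsg.Agent.StdSz.Reduce.prod_or_simple hA hnA hO ht htA with h | S
  · exact Or.inl h
  right
  have C := conf_of_simple S ht htA hR
  have hLH : Cfsg.layer G ≤ Cfsg.layer G ⊔ Subgroup.zpowers t := le_sup_left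
  have hAH : A ≤ Cfsg.layer G ⊔ Subgroup.zpowers t := S.le_layer.trans hLH
  have eL := subgroupOfEquivOfLe hLH
  have eA := subgroupOfEquivOfLe hAH
  obtain ⟨f⟩ := nonempty_quot eA
  have hZ' : Odd (Nat.card (center ↥(A.subgroupOf (Cfsg.layer G ⊔ Subgroup.zpowers t)))) := by
    have : Nat.card (center ↥(A.subgroupOf (Cfsg.layer G ⊔ Subgroup.zpowers t))) = Nat.card (center ↥A) :=
      Nat.card_congr (Subgroup.centerCongr eA).toEquiv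
    rw [this]
    exact hZ
  obtain ⟨h1, h2⟩ := core _ _ _ _ C hZ' (hAX.congr f)
  refine ⟨?_, S.not_inner fun h => h2 (mem_subgroupOf.mpr h)⟩
  rcases h1 with h1 | ⟨⟨g⟩⟩
  · exact Or.inl (Cfsg.Agent.TitsThree.CharBase.ofEquiv eL.symm h1)
  · exact Or.inr ⟨eL.symm.trans g⟩

end Cfsg.Agent.StdEven.Red
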