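import Cfsg.Agent.StdEven.Final
import Cfsg.Agent.StdRank2.End.L3
import Cfsg.Agent.UFiveTwo.Main
import Cfsg.Agent.TriTwo.CoreTwo
import Cfsg.Agent.S1170
import Cfsg.Agent.S1769
import Cfsg.Agent.S1770

/-!
# S1778: the types which are on main

The listed statements used by the types in the form in which they are used, and one theorem for each type.
-/

set_option autoImplicit false

namespace Cfsg.Agent.StdEven.Top

open Cfsg Cfsg.Agent.StdEven.Red

universe u v

/-- S1170 -/
theorem s1170 : Cfsg.Agent.StdSz.Out.S1170Stmt.{u} :=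
  fun X _ _ _ S B h1 h2 h3 => Cfsg.Agent.S1170.result (G := X) S B h1 h2 h3

/-- S1769 -/
theorem linSylow (L : Type u) [Group L] [Finite L] [IsSimpleGroup L] :
    Cfsg.Agent.StdSpFour.CaseBSplit.LinSylow.{u, v} L :=
  fun h3 _ _ _ r hr hF m hm S P hS => Cfsg.Agent.S1769.result h3 r hr hF m hm S P hS

/-- S1770 -/
theorem rec1770 : Cfsg.Agent.TriTwo.Rec.Rec1770.{u} :=
  fun _ _ _ _ S r K _ _ hr hK P h => (Cfsg.Agent.S1770.result S r).2 K hr hK P h

theorem coreL3 : Core.{u} (fun Q _ => TypeL3 Q) := Cfsg.Agent.StdRank2.End.L3.core s1170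

theorem coreU52 : Core.{u} (fun Q _ => TypeU52 Q) := Cfsg.Agent.UFiveTwo.Assembly.core fun L _ _ _ => linSylow L

theorem core3D4two : Core.{u} (fun Q _ => ∃ (K : Type) (_ : Field K) (_ : Fintype K), Fintype.card K = 8 ∧
    Nonempty (Q ≃* ↥(Cfsg.Lie.twistedD4 K 2))) := Cfsg.Agent.TriTwo.CoreTwo.core rec1770

end Cfsg.Agent.StdEven.Top
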