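import Cfsg.Agent.StdEven.Red

/-!
# S1778 from its seven types

`s1778_of_types`: the literal statement of S1778 (universe `u`) from the seven core statements
`Core.{u} (fun Q _ => TypeX Q)`, one for each type, see `StdEven/Red.lean`:

`Core P` := for all finite `H : Type u`, `L A : Subgroup H`, `t : H` with `StdL2.Setup.Conf L A t`, `Odd |Z(A)|` and
`P (A / Z(A))`: `(IsLieTypeChar 2 L ∨ IsoTits L) ∧ t ∉ L`.

Targets of the owners of the types (files `StdRank2/End/<Type>.lean`):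
`theorem core : Core.{u} (fun Q _ => TypeL3 Q)`, `TypeSp4`, `TypeG2`, `TypeU4`, `TypeU5`, `TypeU52`, `Type3D4`.
-/

set_option autoImplicit false

namespace Cfsg.Agent.StdEven.Final

open Cfsg Cfsg.Agent.StdEven.Red

universe u

theorem s1778_of_types (h1 : Core.{u} (fun Q _ => TypeL3 Q)) (h2 : Core.{u} (fun Q _ => TypeSp4 Q))
    (h3 : Core.{u} (fun Q _ => TypeG2 Q)) (h4 : Core.{u} (fun Q _ => TypeU4 Q)) (h5 : Core.{u} (fun Q _ => TypeU5 Q))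
    (h6 : Core.{u} (fun Q _ => TypeU52 Q)) (h7 : Core.{u} (fun Q _ => Type3D4 Q))
    {G : Type u} [Group G] [Finite G] (hO : Cfsg.oddCore G = ⊥)
    (A : Subgroup G) (hA : Cfsg.IsStandardSubgroup A) (hnA : ¬ A.Normal) (hZ : Odd (Nat.card ↥(Subgroup.center ↥A)))
    (hR : ∀ R : Sylow 2 ↥(Subgroup.centralizer (A : Set G)), IsCyclic ↥(R : Subgroup ↥(Subgroup.centralizer (A : Set G))))
    (t : G) (ht : orderOf t = 2) (htA : t ∈ Subgroup.centralizer (A : Set G))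
    (hAX : (∃ (F : Type) (_ : Field F) (_ : Fintype F) (a : ℕ), 2 ≤ a ∧ Fintype.card F = 2 ^ a ∧
        (Nonempty (↥A ⧸ Subgroup.center ↥A ≃* Matrix.ProjectiveSpecialLinearGroup (Fin 3) F) ∨ Nonempty (↥A ⧸ Subgroup.center ↥A ≃* Cfsg.PSp 2 F) ∨
          Nonempty (↥A ⧸ Subgroup.center ↥A ≃* ↥(Cfsg.Lie.chevG2.group F)))) ∨
      (∃ (F : Type) (_ : Field F) (_ : Fintype F) (a : ℕ), 2 ≤ a ∧ Fintype.card F = 4 ^ a ∧
        (Nonempty (↥A ⧸ Subgroup.center ↥A ≃* Cfsg.PSU 4 F (2 ^ a)) ∨ Nonempty (↥A ⧸ Subgroup.center ↥A ≃* Cfsg.PSU 5 F (2 ^ a)))) ∨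
      (∃ (F : Type) (_ : Field F) (_ : Fintype F), Fintype.card F = 4 ∧ Nonempty (↥A ⧸ Subgroup.center ↥A ≃* Cfsg.PSU 5 F 2)) ∨
      (∃ (K : Type) (_ : Field K) (_ : Fintype K) (a : ℕ), 1 ≤ a ∧ Fintype.card K = 8 ^ a ∧ Nonempty (↥A ⧸ Subgroup.center ↥A ≃* ↥(Cfsg.Lie.twistedD4 K (2 ^ a))))) :
    Nonempty (↥(Cfsg.layer G) ≃* ↥A × ↥A) ∨ ((Cfsg.IsLieTypeChar 2 ↥(Cfsg.layer G) ∨ Cfsg.Lie.IsoTits ↥(Cfsg.layer G)) ∧ ¬ (∃ e : G, e ∈ Cfsg.layer G ∧ ∀ x ∈ Cfsg.layer G, t * x * t⁻¹ = e * x * e⁻¹)) :=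
  of_core (core_of_types h1 h2 h3 h4 h5 h6 h7) hO A hA hnA hZ hR t ht htA (typeHyp_of hAX)

/-- the core statement for `³D₄`, from parameter `2` and parameters `2 ^ a`, `a ≥ 2`. -/
theorem core_3D4 (h2 : Core.{u} (fun Q _ => ∃ (K : Type) (_ : Field K) (_ : Fintype K), Fintype.card K = 8 ∧
      Nonempty (Q ≃* ↥(Cfsg.Lie.twistedD4 K 2))))
    (h4 : Core.{u} (fun Q _ => ∃ (K : Type) (_ : Field K) (_ : Fintype K) (a : ℕ), 2 ≤ a ∧ Fintype.card K = 8 ^ a ∧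
      Nonempty (Q ≃* ↥(Cfsg.Lie.twistedD4 K (2 ^ a))))) : Core.{u} (fun Q _ => Type3D4 Q) := by
  intro H _ _ L A t hC hZ h
  obtain ⟨K, i1, i2, a, ha, hc, he⟩ := h
  rcases Nat.lt_or_ge a 2 with h | h
  · obtain rfl : a = 1 := by omega
    exact h2 H L A t hC hZ ⟨K, i1, i2, by simpa using hc, by simpa using he⟩
  · exact h4 H L A t hC hZ ⟨K, i1, i2, a, h, hc, he⟩

end Cfsg.Agent.StdEven.Final
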