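import Cfsg.Agent.StdL2.Setup
import Cfsg.Agent.StdSz.FromStd
import Cfsg.Agent.StdEven.Syl
import Cfsg.Agent.Schreier.Basic

/-!
# Sylow 2-subgroups at a standard subgroup

`C : StdL2.Setup.Conf L A t`; `IsT A t T`: `T` is a Sylow 2-subgroup of `N(A)` with `t` in its centre such that `t` is
the only involution of `T ⊓ C(A)`.
-/

set_option autoImplicit false
set_option linter.unusedSectionVars false

namespace Cfsg.Agent.StdEven.Loc

open Cfsg Subgroup Cfsg.Agent.SignalizersComponents Cfsg.Agent.StdEven.Syl Cfsg.Agent.StdL2.Setup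
open Cfsg.Agent.Schreier.Basic

variable {G : Type*} [Group G]

theorem comm_of_centralizer {A : Subgroup G} {k a : G} (hk : k ∈ centralizer (A : Set G)) (ha : a ∈ A) :
    k * a = a * k := (mem_centralizer_iff.mp hk a ha).symm

theorem normalizer_le_normalizer_centralizer (A : Subgroup G) :
    normalizer (A : Set G) ≤ normalizer (centralizer (A : Set G) : Set G) := by
  have key : ∀ g ∈ normalizer (A : Set G), ∀ x ∈ centralizer (A : Set G), g * x * g⁻¹ ∈ centralizer (A : Set G) := by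
    intro g hg x hx
    rw [mem_centralizer_iff]
    intro a ha
    have h1 : g⁻¹ * a * g ∈ A := conj_inv_mem_of_mem_normalizer hg ha
    have h2 := comm_of_centralizer hx h1
    calc a * (g * x * g⁻¹) = g * ((g⁻¹ * a * g) * x) * g⁻¹ := by group
      _ = g * (x * (g⁻¹ * a * g)) * g⁻¹ := by rw [h2]
      _ = g * x * g⁻¹ * a := by group
  intro g hg
  rw [mem_normalizer_iff]
  intro x
  refine ⟨key g hg x, fun hx => ?_⟩
  have h1 := key g⁻¹ (inv_mem hg) _ hx
  have h2 : g⁻¹ * (g * x * g⁻¹) * g⁻¹⁻¹ = x := by group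
  rwa [h2] at h1

/-- `T` is a Sylow 2-subgroup of `N(A)`, `t` is central in `T` and the only involution of `T ⊓ C(A)`. -/
structure IsT (A : Subgroup G) (t : G) (T : Subgroup G) : Prop where
  syl : IsSyl T (normalizer (A : Set G))
  mem : t ∈ T
  cent : ∀ x ∈ T, x * t = t * x
  uniq : ∀ r ∈ T, r ∈ centralizer (A : Set G) → r * r = 1 → r = 1 ∨ r = t

section Conf

variable [Finite G] {L A : Subgroup G} {t : G}

theorem tt (ht : orderOf t = 2) : t * t = 1 := by
  have := pow_orderOf_eq_one t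
  rwa [ht, pow_two] at this

theorem t_ne (ht : orderOf t = 2) : t ≠ 1 := by
  intro h
  rw [h, orderOf_one] at ht
  exact absurd ht (by norm_num)

/-- `C(t) ≤ N(A)`. -/
theorem mem_normalizer_of_comm (hA : IsStandardSubgroup A) (ht : orderOf t = 2)
    (htA : t ∈ centralizer (A : Set G)) {g : G} (hg : g * t = t * g) : g ∈ normalizer (A : Set G) := by
  apply StandardTrichotomy.centralizer_involution_le hA ht htA
  rw [mem_centralizer_singleton_iff]; exact hg

theorem isPGroup_zpowers (ht : orderOf t = 2) : IsPGroup 2 (zpowers t) := by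
  rintro ⟨x, hx⟩
  obtain ⟨i, rfl⟩ := mem_zpowers_iff.mp hx
  refine ⟨1, Subtype.ext ?_⟩
  show (t ^ i) ^ 2 ^ 1 = 1
  rw [← zpow_natCast, ← zpow_mul, mul_comm, zpow_mul, zpow_natCast, pow_one, pow_two, tt ht, one_zpow]

theorem exists_isT (hA : IsStandardSubgroup A) (ht : orderOf t = 2) (htA : t ∈ centralizer (A : Set G))
    (cyc : ∀ R : Sylow 2 ↥(centralizer (A : Set G)), IsCyclic ↥(R : Subgroup ↥(centralizer (A : Set G)))) :
    ∃ T, IsT A t T := by
  have hKN : centralizer (A : Set G) ≤ normalizer (A : Set G) := by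
    rw [hA.2.2.2]; exact le_normalizer
  obtain ⟨R, hR, htR⟩ := exists_isSyl (N := centralizer (A : Set G)) (isPGroup_zpowers ht)
    (by rw [zpowers_le]; exact htA)
  have htR' : t ∈ R := htR (mem_zpowers t)
  obtain ⟨T, hT, hRT⟩ := exists_isSyl hR.two (hR.le.trans hKN)
  have hTK : T ⊓ centralizer (A : Set G) = R :=
    hR.max _ (hT.two.to_le inf_le_left) inf_le_right (le_inf hRT hR.le)
  have hcyc : IsCyclic R := StdSz.FromStd.isCyclic_of_le cyc hR.two hR.le
  have huniq : ∀ r ∈ T, r ∈ centralizer (A : Set G) → r * r = 1 → r = 1 ∨ r = t := by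
    intro r hr hrK hrr
    by_contra hcon
    push Not at hcon
    have h1 : r ∈ R := by rw [← hTK]; exact mem_inf.mpr ⟨hr, hrK⟩
    exact hcon.2 (StdSz.FromStd.involution_unique hcyc h1 htR' hrr (tt ht) hcon.1 (t_ne ht))
  refine ⟨T, hT, hRT htR', fun x hx => ?_, huniq⟩
  have h1 : x * t * x⁻¹ ∈ centralizer (A : Set G) :=
    conj_mem_of_mem_normalizer (normalizer_le_normalizer_centralizer A (hT.le hx)) htA
  have h2 : x * t * x⁻¹ ∈ T := mul_mem (mul_mem hx (hRT htR')) (inv_mem hx)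
  have h3 : (x * t * x⁻¹) * (x * t * x⁻¹) = 1 := by
    have : (x * t * x⁻¹) * (x * t * x⁻¹) = x * (t * t) * x⁻¹ := by group
    rw [this, tt ht, mul_one, mul_inv_cancel]
  rcases huniq _ h2 h1 h3 with h | h
  · exfalso
    apply t_ne ht
    rw [mul_inv_eq_one, mul_eq_left] at h
    exact h
  · rwa [mul_inv_eq_iff_eq_mul] at h

namespace IsT

variable {T : Subgroup G} (h : IsT A t T)
include h

theorem norm : T ≤ normalizer (A : Set G) := h.syl.le

theorem normK : T ≤ normalizer (centralizer (A : Set G) : Set G) :=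
  h.syl.le.trans (normalizer_le_normalizer_centralizer A)

/-- `T` is a Sylow 2-subgroup of `C(t)`. -/
theorem syl_cent (hA : IsStandardSubgroup A) (ht : orderOf t = 2) (htA : t ∈ centralizer (A : Set G)) :
    IsSyl T (centralizer ({t} : Set G)) := by
  apply h.syl.mono
  · intro x hx
    rw [mem_centralizer_singleton_iff]
    exact h.cent x hx
  · intro x hx
    rw [mem_centralizer_singleton_iff] at hx
    exact mem_normalizer_of_comm hA ht htA hx

/-- `T ⊓ A` is a Sylow 2-subgroup of `A`. -/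
theorem sylA : IsSyl (T ⊓ A) A := h.syl.inf_normal le_normalizer le_rfl

/-- `T ⊓ C(A)` is a Sylow 2-subgroup of `C(A)`. -/
theorem sylK (hA : IsStandardSubgroup A) : IsSyl (T ⊓ centralizer (A : Set G)) (centralizer (A : Set G)) := by
  apply h.syl.inf_normal
  · rw [hA.2.2.2]; exact le_normalizer
  · exact normalizer_le_normalizer_centralizer A

/-- 2-elements of the centre of `A` are trivial. -/
theorem eq_one_of_mem (hZ : Odd (Nat.card (center ↥A))) {x : G} (hxT : x ∈ T) (hxA : x ∈ A)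
    (hxK : x ∈ centralizer (A : Set G)) : x = 1 := by
  have h1 : (⟨x, hxA⟩ : A) ∈ center A := by
    rw [mem_center_iff]
    intro g
    exact Subtype.ext (comm_of_centralizer hxK g.2).symm
  obtain ⟨k, hk⟩ := h.syl.two ⟨x, hxT⟩
  have hk : x ^ 2 ^ k = 1 := congrArg Subtype.val hk
  have h2 : orderOf (⟨x, hxA⟩ : A) ∣ Nat.card (center ↥A) := Subgroup.orderOf_dvd_natCard _ h1
  have h3 : orderOf (⟨x, hxA⟩ : A) ∣ 2 ^ k := orderOf_dvd_of_pow_eq_one (Subtype.ext hk)
  have h4 : Nat.Coprime (2 ^ k) (Nat.card (center ↥A)) := Nat.Coprime.pow_left _ (Nat.coprime_two_left.mpr hZ)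
  have h5 : orderOf (⟨x, hxA⟩ : A) = 1 := Nat.eq_one_of_dvd_coprimes h4 h3 h2
  exact congrArg Subtype.val (orderOf_eq_one_iff.mp h5)

/-- Elements of `T` inducing inner automorphisms of `A` lie in `(T ⊓ A)(T ⊓ C(A))`. -/
theorem exists_of_inner {x : G} (hx : x ∈ T) {a : G} (ha : a ∈ A)
    (hxa : a⁻¹ * x ∈ centralizer (A : Set G)) :
    ∃ u ∈ T, u ∈ A ∧ ∃ r ∈ T, r ∈ centralizer (A : Set G) ∧ x = u * r := by
  have hcomm : ∀ a ∈ A, ∀ k ∈ centralizer (A : Set G), a * k = k * a := fun a ha k hk =>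
    (comm_of_centralizer hk ha).symm
  -- the group `B` of the `A`-parts of the elements of `T`
  let B : Subgroup G :=
    { carrier := {a | a ∈ A ∧ ∃ k ∈ centralizer (A : Set G), a * k ∈ T}
      mul_mem' := by
        rintro a b ⟨ha, k, hk, hak⟩ ⟨hb, l, hl, hbl⟩
        refine ⟨mul_mem ha hb, k * l, mul_mem hk hl, ?_⟩
        have h1 : a * b * (k * l) = (a * k) * (b * l) := by
          calc a * b * (k * l) = a * (b * k) * l := by group
            _ = a * (k * b) * l := by rw [hcomm b hb k hk]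
            _ = (a * k) * (b * l) := by group
        rw [h1]; exact mul_mem hak hbl
      one_mem' := ⟨one_mem _, 1, one_mem _, by simp⟩
      inv_mem' := by
        rintro a ⟨ha, k, hk, hak⟩
        refine ⟨inv_mem ha, k⁻¹, inv_mem hk, ?_⟩
        have h1 : a⁻¹ * k⁻¹ = (a * k)⁻¹ := by rw [hcomm a ha k hk]; group
        rw [h1]; exact inv_mem hak }
  have hBA : B ≤ A := fun a ha => ha.1
  set Z : Subgroup G := A ⊓ centralizer (A : Set G) with hZdef
  have hZB : Z ≤ B := by
    intro z hz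
    exact ⟨hz.1, z⁻¹, inv_mem hz.2, by rw [mul_inv_cancel]; exact one_mem _⟩
  have hSB : T ⊓ A ≤ B := fun s hs => ⟨hs.2, 1, one_mem _, by rw [mul_one]; exact hs.1⟩
  have hS : IsSyl (T ⊓ A) B := h.sylA.mono hSB hBA
  have h1 : Odd (((T ⊓ A) ⊔ Z).relIndex B) :=
    Odd.of_dvd_nat hS.odd_relIndex (relIndex_dvd_of_le_left B le_sup_left)
  -- `Z` has 2-power index in `B`
  have hZn : (Z.subgroupOf B).Normal := by
    constructor
    rintro z hz g
    rw [mem_subgroupOf] at hz ⊢
    have h2 : ((g * z * g⁻¹ : B) : G) = z := by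
      push_cast
      rw [hcomm g (hBA g.2) z hz.2, mul_inv_cancel_right]
    rw [h2]; exact hz
  have h2 : IsPGroup 2 (B ⧸ Z.subgroupOf B) := by
    intro q
    induction q using QuotientGroup.induction_on with
    | H b =>
      obtain ⟨hbA, k, hk, hbk⟩ := b.2
      obtain ⟨n, hn⟩ := h.syl.two ⟨_, hbk⟩
      have hn : ((b : G) * k) ^ 2 ^ n = 1 := congrArg Subtype.val hn
      refine ⟨n, ?_⟩
      rw [← QuotientGroup.mk_pow, QuotientGroup.eq_one_iff, mem_subgroupOf]
      have h3 : Commute (b : G) k := hcomm b hbA k hk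
      rw [h3.mul_pow] at hn
      have h4 : (b : G) ^ 2 ^ n = (k ^ 2 ^ n)⁻¹ := eq_inv_of_mul_eq_one_left hn
      refine mem_inf.mpr ⟨pow_mem hbA _, ?_⟩
      show (b : G) ^ 2 ^ n ∈ _
      rw [h4]
      exact inv_mem (pow_mem hk _)
  have : Fact (Nat.Prime 2) := ⟨Nat.prime_two⟩
  obtain ⟨n, hn⟩ := (IsPGroup.iff_card).mp h2
  have h3 : ((T ⊓ A) ⊔ Z).relIndex B ∣ 2 ^ n := by
    rw [← hn]
    exact relIndex_dvd_of_le_left B (le_sup_right : Z ≤ (T ⊓ A) ⊔ Z)
  have h4 : ((T ⊓ A) ⊔ Z).relIndex B = 1 := by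
    apply Nat.eq_one_of_dvd_coprimes (Nat.Coprime.pow_left n (Nat.coprime_two_left.mpr h1)) h3 dvd_rfl
  rw [relIndex_eq_one] at h4
  have haB : a ∈ B := ⟨ha, a⁻¹ * x, hxa, by rw [mul_inv_cancel_left]; exact hx⟩
  have h5 := h4 haB
  let P' : Subgroup G :=
    { carrier := {g | ∃ u ∈ T ⊓ A, ∃ z ∈ Z, u * z = g}
      mul_mem' := by
        rintro _ _ ⟨u, hu, z, hz, rfl⟩ ⟨v, hv, w, hw, rfl⟩
        refine ⟨u * v, mul_mem hu hv, z * w, mul_mem hz hw, ?_⟩
        calc u * v * (z * w) = u * (v * z) * w := by group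
          _ = u * (z * v) * w := by rw [hcomm v hv.2 z hz.2]
          _ = u * z * (v * w) := by group
      one_mem' := ⟨1, one_mem _, 1, one_mem _, by simp⟩
      inv_mem' := by
        rintro _ ⟨u, hu, z, hz, rfl⟩
        refine ⟨u⁻¹, inv_mem hu, z⁻¹, inv_mem hz, ?_⟩
        rw [hcomm u hu.2 z hz.2]; group }
  have h6 : (T ⊓ A) ⊔ Z ≤ P' :=
    sup_le (fun u hu => ⟨u, hu, 1, one_mem _, mul_one u⟩) (fun z hz => ⟨1, one_mem _, z, hz, one_mul z⟩)
  obtain ⟨u, hu, z, hz, hua⟩ := h6 h5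
  refine ⟨u, hu.1, hu.2, u⁻¹ * x, mul_mem (inv_mem hu.1) hx, ?_, by group⟩
  have h7 : u⁻¹ * x = z * (a⁻¹ * x) := by rw [← hua]; group
  rw [h7]
  exact mul_mem hz.2 hxa

end IsT

end Conf

end Cfsg.Agent.StdEven.Loc
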