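import Cfsg.Agent.StdEven.StepFour

/-!
# `StepFour` with a weaker hypothesis on the outer involutions

`Inner A t T`: `t ~ v` or `t ~ t v` for an involution `v` of `T ⊓ A`.
-/

set_option autoImplicit false
set_option linter.unusedSectionVars false

namespace Cfsg.Agent.StdEven.StepFourW

open Cfsg Subgroup Cfsg.Agent.SignalizersComponents Cfsg.Agent.StdEven.Syl Cfsg.Agent.StdEven.Loc
open Cfsg.Agent.StdEven.Perf Cfsg.Agent.StdEven.Avg Cfsg.Agent.StdL2.Setup Cfsg.Agent.Schreier.Basic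
open Cfsg.Agent.StdEven.StepFour

variable {G : Type*} [Group G]

/-- The conclusion of `StepFour.exists_inner`. -/
def Inner (A : Subgroup G) (t : G) (T : Subgroup G) : Prop :=
  ∃ v ∈ T, v ∈ A ∧ v * v = 1 ∧ v ≠ 1 ∧ ((∃ g : G, g * t * g⁻¹ = v) ∨ ∃ g : G, g * t * g⁻¹ = t * v)

/-- weak form of `StepFour.Outer` -/
def OuterW (A : Subgroup G) (t : G) (T : Subgroup G) : Prop :=
  ∀ f ∈ T, f * f = 1 → (¬ ∃ a ∈ A, a⁻¹ * f ∈ centralizer (A : Set G)) → (∃ g : G, g * t * g⁻¹ = f) →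
    ∃ a ∈ A, a * a = 1 ∧ a ≠ 1 ∧ ((∃ g : G, g * t * g⁻¹ = a) ∨ ∃ g : G, g * t * g⁻¹ = t * a)

variable [Finite G] {L A : Subgroup G} {t : G} {T J W : Subgroup G}

/-- conjugation into `T` -/
theorem inner_of (C : Conf L A t) (hT : IsT A t T) {a : G} (ha : a ∈ A) (haa : a * a = 1) (ha1 : a ≠ 1)
    (h : (∃ g : G, g * t * g⁻¹ = a) ∨ ∃ g : G, g * t * g⁻¹ = t * a) : Inner A t T := by
  have h1 : IsPGroup 2 (zpowers a) := isPGroup_zpowers (orderOf_eq_prime (by rw [pow_two, haa]) ha1)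
  obtain ⟨n, hn, hna⟩ := hT.sylA.exists_conj h1 (by rw [zpowers_le]; exact ha)
  have h2 := hna a (mem_zpowers a)
  have h3 : t * n = n * t := comm_of_centralizer C.htA hn
  refine ⟨n * a * n⁻¹, h2.1, h2.2, ?_, ?_, ?_⟩
  · calc n * a * n⁻¹ * (n * a * n⁻¹) = n * (a * a) * n⁻¹ := by group
      _ = 1 := by rw [haa]; group
  · intro h
    apply ha1
    have : a = n⁻¹ * (n * a * n⁻¹) * n := by group
    rw [this, h]; group
  · rcases h with ⟨y, hy⟩ | ⟨y, hy⟩
    · exact Or.inl ⟨n * y, by rw [← hy]; group⟩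
    · refine Or.inr ⟨n * y, ?_⟩
      calc n * y * t * (n * y)⁻¹ = n * (y * t * y⁻¹) * n⁻¹ := by group
        _ = n * (t * a) * n⁻¹ := by rw [hy]
        _ = (n * t) * a * n⁻¹ := by group
        _ = (t * n) * a * n⁻¹ := by rw [h3]
        _ = t * (n * a * n⁻¹) := by group

/-- The inner case: a conjugate `f ≠ t` of `t` in `T` which is inner on `A`. -/
theorem inner_of_inner (hZ : Odd (Nat.card (center ↥A))) (hT : IsT A t T) {f g : G} (hfT : f ∈ T) (hft : f ≠ t)
    (hg : g * t * g⁻¹ = f) (hff : f * f = 1) (hf1 : f ≠ 1) (hin : ∃ a ∈ A, a⁻¹ * f ∈ centralizer (A : Set G)) :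
    Inner A t T := by
  obtain ⟨a, ha, haf⟩ := hin
  obtain ⟨v, hvT, hvA, r, hrT, hrK, hfe⟩ := hT.exists_of_inner hfT ha haf
  have hrv : r * v = v * r := comm_of_centralizer hrK hvA
  have h1 : (v * v) * (r * r) = 1 := by
    rw [← hff, hfe]
    calc v * v * (r * r) = v * (v * r) * r := by group
      _ = v * (r * v) * r := by rw [hrv]
      _ = v * r * (v * r) := by group
  have h2 : v * v = 1 := by
    apply hT.eq_one_of_mem hZ (mul_mem hvT hvT) (mul_mem hvA hvA)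
    rw [eq_inv_of_mul_eq_one_left h1]
    exact inv_mem (mul_mem hrK hrK)
  rw [h2, one_mul] at h1
  rcases hT.uniq r hrT hrK h1 with h | h
  · rw [h, mul_one] at hfe
    refine ⟨v, hvT, hvA, h2, ?_, Or.inl ⟨g, by rw [hg]; exact hfe⟩⟩
    rw [← hfe]; exact hf1
  · rw [h] at hfe hrv
    refine ⟨v, hvT, hvA, h2, ?_, Or.inr ⟨g, by rw [hrv, hg]; exact hfe⟩⟩
    intro hv
    rw [hv, one_mul] at hfe
    exact hft hfe

/-- a conjugate `f ≠ t` of `t` in `T` gives `Inner`. -/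
theorem inner_of_conj (C : Conf L A t) (hZ : Odd (Nat.card (center ↥A))) (hT : IsT A t T) (hO : OuterW A t T) {f g : G}
    (hfT : f ∈ T) (hft : f ≠ t) (hg : g * t * g⁻¹ = f) : Inner A t T := by
  have hff : f * f = 1 := by
    have : f * f = g * (t * t) * g⁻¹ := by rw [← hg]; group
    rw [this, tt C.ht, mul_one, mul_inv_cancel]
  have hf1 : f ≠ 1 := by
    intro h
    apply t_ne C.ht
    have : t = g⁻¹ * f * g := by rw [← hg]; group
    rw [this, h]; group
  by_cases hin : ∃ a ∈ A, a⁻¹ * f ∈ centralizer (A : Set G)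
  · exact inner_of_inner hZ hT hfT hft hg hff hf1 hin
  · obtain ⟨a, ha, haa, ha1, h⟩ := hO f hfT hff hin ⟨g, hg⟩
    exact inner_of C hT ha haa ha1 h

/-- `StepFour.exists_inner` from `OuterW`. -/
theorem exists_innerW (C : Conf L A t) (hZ : Odd (Nat.card (center ↥A))) (hT : IsT A t T) (hO : OuterW A t T) {u : G}
    (huA : u ∈ A) (hu1 : u ≠ 1) (huu : u * u = 1) (hsyl : IsSyl T ⊤) : Inner A t T := by
  obtain ⟨g, hgT, hgt⟩ := exists_conj_ne C huA hu1 huu hT.mem hsyl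
  exact inner_of_conj C hZ hT hO hgT hgt rfl

section Data

variable (D : Data A t T J W)
include D

/-- `T` is not a Sylow 2-subgroup of `G`. -/
theorem not_sylW (C : Conf L A t) (hI : IsSyl T ⊤ → Inner A t T) : ¬ IsSyl T ⊤ := by
  intro hsyl
  obtain ⟨v, hvT, hvA, hvv, hv1, hconj⟩ := hI hsyl
  obtain ⟨b, hb, hbW⟩ := D.into v hvT hvA hvv
  have hbt : t * b = b * t := comm_of_centralizer C.htA hb
  -- an element `s ≠ t` of `W ∪ t W` conjugate to `t`
  obtain ⟨s, h, hs, hsW, hsne⟩ : ∃ s h : G, h * t * h⁻¹ = s ∧ (s ∈ W ∨ t * s ∈ W) ∧ s ≠ t := by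
    rcases hconj with ⟨g, hg⟩ | ⟨g, hg⟩
    · refine ⟨b * v * b⁻¹, b * g, ?_, Or.inl hbW, ?_⟩
      · rw [← hg]; group
      · intro h
        rw [h] at hbW
        apply D.excl 1 (one_mem _)
        simpa using hbW
    · refine ⟨t * (b * v * b⁻¹), b * g, ?_, Or.inr ?_, ?_⟩
      · calc b * g * t * (b * g)⁻¹ = b * (g * t * g⁻¹) * b⁻¹ := by group
          _ = (b * t) * v * b⁻¹ := by rw [hg]; group
          _ = t * (b * v * b⁻¹) := by rw [← hbt]; group
      · rw [← mul_assoc, tt C.ht, one_mul]; exact hbW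
      · intro h
        apply hv1
        rw [mul_eq_left] at h
        have : v = b⁻¹ * (b * v * b⁻¹) * b := by group
        rw [this, h]; group
  -- `J ≤ C(s)`
  have hsJ : ∀ j ∈ J, j * s = s * j := by
    intro j hj
    rcases hsW with h1 | h1
    · exact (D.W_cent _ h1 j hj).symm
    · have h2 := D.W_cent _ h1 j hj
      have h3 : s = t * (t * s) := by rw [← mul_assoc, tt C.ht, one_mul]
      have h4 := D.isT.cent j (D.J_le hj)
      calc j * s = (j * t) * (t * s) := by rw [mul_assoc, ← h3]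
        _ = t * (j * (t * s)) := by rw [h4]; group
        _ = t * (t * s * j) := by rw [h2]
        _ = s * j := by rw [← mul_assoc, ← h3]
  -- `T` is Sylow in `C(t)`, its conjugate is Sylow in `C(s)`
  have hTc := D.isT.syl_cent C.std C.ht C.htA
  have hJs : ∀ j ∈ J, h⁻¹ * j * h ∈ centralizer ({t} : Set G) := by
    intro j hj
    rw [mem_centralizer_singleton_iff]
    have h1 := hsJ j hj
    rw [← hs] at h1
    calc h⁻¹ * j * h * t = h⁻¹ * (j * (h * t * h⁻¹)) * h := by group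
      _ = h⁻¹ * (h * t * h⁻¹ * j) * h := by rw [h1]
      _ = t * (h⁻¹ * j * h) := by group
  have hJp : IsPGroup 2 (J.map (MulAut.conj h⁻¹).toMonoidHom) := isPGroup_map (D.isT.syl.two.to_le D.J_le) h⁻¹
  obtain ⟨c, hc, hcT⟩ := hTc.exists_conj hJp (by
    rintro _ ⟨j, hj, rfl⟩
    show h⁻¹ * j * h⁻¹⁻¹ ∈ _
    rw [inv_inv]
    exact hJs j hj)
  rw [mem_centralizer_singleton_iff] at hc
  have hn : c * h⁻¹ ∈ normalizer (J : Set G) := by
    apply D.mem_normalizer_J
    intro j hj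
    have h1 := hcT _ (conj_mem_map h⁻¹ hj)
    have h2 : c * h⁻¹ * j * (c * h⁻¹)⁻¹ = c * (h⁻¹ * j * h⁻¹⁻¹) * c⁻¹ := by group
    rw [h2]; exact h1
  -- `N(J)` centralises `t`
  have h1 := D.comm_of_syl C (hsyl.mono D.T_le le_top) D.isT.cent (inv_mem hn)
  apply hsne
  rw [← hs]
  have h2 : (c * h⁻¹)⁻¹ * t * (c * h⁻¹) = h * (c⁻¹ * (t * c)) * h⁻¹ := by group
  have h3 : (c * h⁻¹)⁻¹ * t * (c * h⁻¹) = t := by rw [h1]; group
  rw [← hc, inv_mul_cancel_left] at h2
  rw [← h2, h3]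

/-- `|R| = 2`.  `X` is a subgroup of `T` normalised by `N(T)`, the product of `T ⊓ C(A)` and a subgroup of exponent 2 of
`A` (e.g. `X = C_T(J)`). -/
theorem R_eqW (C : Conf L A t) (hI : IsSyl T ⊤ → Inner A t T) {X : Subgroup G}
    (hX1 : ∀ r ∈ T, r ∈ centralizer (A : Set G) → r ∈ X)
    (hX2 : ∀ x ∈ X, ∃ v ∈ A, v * v = 1 ∧ ∃ r ∈ T, r ∈ centralizer (A : Set G) ∧ x = v * r)
    (hX3 : ∀ g ∈ normalizer (T : Set G), ∀ x ∈ X, g * x * g⁻¹ ∈ X)
    {r : G} (hr : r ∈ T) (hrK : r ∈ centralizer (A : Set G)) : r = 1 ∨ r = t := by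
  by_contra hcon
  push Not at hcon
  -- an element with square `t`
  obtain ⟨s, hs, hsK, hst⟩ : ∃ s ∈ T, s ∈ centralizer (A : Set G) ∧ s * s = t := by
    obtain ⟨k, hk⟩ := D.isT.syl.two ⟨r, hr⟩
    have hk : r ^ 2 ^ k = 1 := congrArg Subtype.val hk
    obtain ⟨k, hk, hko⟩ := (Nat.dvd_prime_pow Nat.prime_two).mp (orderOf_dvd_of_pow_eq_one hk)
    match k, hko with
    | 0, hko =>
      exfalso
      rw [pow_zero, orderOf_eq_one_iff] at hko
      exact hcon.1 hko
    | 1, hko =>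
      exfalso
      rcases D.isT.uniq r hr hrK (by rw [← pow_two, ← pow_one 2, ← hko, pow_orderOf_eq_one]) with h | h
      · exact hcon.1 h
      · exact hcon.2 h
    | k + 2, hko =>
      refine ⟨r ^ 2 ^ k, pow_mem hr _, pow_mem hrK _, ?_⟩
      have h1 : r ^ 2 ^ k * r ^ 2 ^ k = r ^ 2 ^ (k + 1) := by rw [← pow_add]; congr 1; ring
      rw [h1]
      rcases D.isT.uniq (r ^ 2 ^ (k + 1)) (pow_mem hr _) (pow_mem hrK _) (by
        rw [← pow_add]
        have : 2 ^ (k + 1) + 2 ^ (k + 1) = 2 ^ (k + 2) := by ring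
        rw [this, ← hko, pow_orderOf_eq_one]) with h | h
      · exfalso
        have h2 := orderOf_dvd_of_pow_eq_one h
        rw [hko] at h2
        have h3 := Nat.le_of_dvd (by positivity) h2
        have h4 : 2 ^ (k + 1) < 2 ^ (k + 2) := Nat.pow_lt_pow_right (by norm_num) (by omega)
        omega
      · exact h
  -- `N(T)` centralises `t`
  apply not_sylW D C hI
  apply D.isT.syl.top_of_normalizer
  intro g hg
  apply mem_normalizer_of_comm C.std C.ht C.htA
  obtain ⟨v, hvA, hvv, r', hr', hr'K, hx⟩ := hX2 _ (hX3 g hg s (hX1 s hs hsK))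
  have hrv : r' * v = v * r' := comm_of_centralizer hr'K hvA
  have h1 : g * t * g⁻¹ = r' * r' := by
    calc g * t * g⁻¹ = (g * s * g⁻¹) * (g * s * g⁻¹) := by rw [← hst]; group
      _ = v * r' * (v * r') := by rw [hx]
      _ = v * (r' * v) * r' := by group
      _ = (v * v) * (r' * r') := by rw [hrv]; group
      _ = r' * r' := by rw [hvv, one_mul]
  have h2 : g * t * g⁻¹ * (g * t * g⁻¹) = 1 := by
    calc g * t * g⁻¹ * (g * t * g⁻¹) = g * (t * t) * g⁻¹ := by group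
      _ = 1 := by rw [tt C.ht]; group
  rcases D.isT.uniq (g * t * g⁻¹) (by rw [h1]; exact mul_mem hr' hr') (by rw [h1]; exact mul_mem hr'K hr'K) h2
    with h | h
  · exfalso
    apply t_ne C.ht
    have : t = g⁻¹ * (g * t * g⁻¹) * g := by group
    rw [this, h]; group
  · rwa [mul_inv_eq_iff_eq_mul] at h

end Data

end Cfsg.Agent.StdEven.StepFourW
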